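import Mathlib
import Groth.Prelude.Def_QuadSing
import Groth.Agent.Lib.Hensel.MultivarRoot
import Groth.Agent.Lib.Hensel.Local

/-!
# The Morse lemma in a henselian local ring
-/

set_option autoImplicit false
set_option linter.style.haveILetI false

universe u v

open IsLocalRing Matrix

namespace GrothLib.OrdHens1

section Hens

variable {H : Type u} [CommRing H]

/-- The quadratic form of a square matrix. -/
def qf {ι : Type*} [Fintype ι] (U : Matrix ι ι H) (y : ι → H) : H := y ⬝ᵥ (U *ᵥ y)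

theorem qf_eq_sum {ι : Type*} [Fintype ι] (U : Matrix ι ι H) (y : ι → H) :
    qf U y = ∑ i, ∑ j, U i j * (y i * y j) := by
  simp only [qf, dotProduct, mulVec, Finset.mul_sum]
  exact Finset.sum_congr rfl fun i _ ↦ Finset.sum_congr rfl fun j _ ↦ by ring

theorem qf_add_matrix {ι : Type*} [Fintype ι] (U V : Matrix ι ι H) (y : ι → H) :
    qf (U + V) y = qf U y + qf V y := by simp [qf, add_mulVec]

theorem qf_smul_matrix {ι : Type*} [Fintype ι] (c : H) (U : Matrix ι ι H) (y : ι → H) :
    qf (c • U) y = c * qf U y := by simp [qf, smul_mulVec]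

theorem qf_transpose {ι : Type*} [Fintype ι] (U : Matrix ι ι H) (y : ι → H) : qf Uᵀ y = qf U y := by
  rw [qf_eq_sum, qf_eq_sum, Finset.sum_comm]
  simp [mul_comm (y _) (y _)]

theorem qf_mulVec {ι : Type*} [Fintype ι] (U M : Matrix ι ι H) (y : ι → H) :
    qf U (M *ᵥ y) = qf (Mᵀ * U * M) y := by
  simp only [qf]
  rw [← mulVec_mulVec, ← mulVec_mulVec, dotProduct_mulVec y Mᵀ, vecMul_transpose]

theorem qf_add {ι : Type*} [Fintype ι] (U : Matrix ι ι H) (y z : ι → H) :
    qf U (y + z) = qf U y + z ⬝ᵥ ((U + Uᵀ) *ᵥ y) + qf U z := by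
  simp only [qf, mulVec_add, dotProduct_add, add_dotProduct, add_mulVec]
  rw [show z ⬝ᵥ (Uᵀ *ᵥ y) = y ⬝ᵥ (U *ᵥ z) by
    rw [mulVec_transpose, dotProduct_comm, ← dotProduct_mulVec]]
  ring

variable [HenselianLocalRing H]

open MvPolynomial in
/-- Solving the quadratic matrix equation near zero. -/
theorem exists_matrix_root {m : ℕ} (C E : Matrix (Fin m) (Fin m) H) (hE : ∀ i j, E i j ∈ maximalIdeal H) :
    ∃ X : Matrix (Fin m) (Fin m) H, X + Xᵀ * C * X = E ∧ ∀ i j, X i j ∈ maximalIdeal H := by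
  let V : Matrix (Fin m) (Fin m) (MvPolynomial (Fin m × Fin m) H) := fun i j ↦ MvPolynomial.X (i, j)
  let F : Fin m × Fin m → MvPolynomial (Fin m × Fin m) H := fun p ↦
    MvPolynomial.X p + (∑ l, ∑ i, MvPolynomial.C (C i l) * (V i p.1 * V l p.2)) - MvPolynomial.C (E p.1 p.2)
  have hev : ∀ x p, MvPolynomial.eval x (F p) =
      x p + (∑ l, ∑ i, C i l * (x (i, p.1) * x (l, p.2))) - E p.1 p.2 := fun x p ↦ by
    simp [F, V, map_sum]
  have hJ : (Matrix.of fun p q ↦ MvPolynomial.eval (0 : Fin m × Fin m → H) (pderiv q (F p))) = 1 := by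
    ext p q
    have h2 : ∀ l i, MvPolynomial.eval (0 : Fin m × Fin m → H)
        (pderiv q (MvPolynomial.C (C i l) * (V i p.1 * V l p.2))) = 0 := fun l i ↦ by
      simp [V, pderiv_mul]
    simp only [Matrix.of_apply, F, map_sub, map_add, map_sum, h2, Finset.sum_const_zero, add_zero,
      pderiv_C, map_zero, sub_zero]
    rw [pderiv_X]
    rcases eq_or_ne p q with rfl | h
    · simp
    · simp [Matrix.one_apply_ne h, Pi.single_eq_of_ne h]
  obtain ⟨x, hx, hxm⟩ := GrothLib.Hensel.exists_multivariate_root (I := maximalIdeal H) F 0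
    (fun p ↦ by
      rw [hev]
      simpa using hE p.1 p.2)
    (by rw [hJ, det_one]; simp)
  refine ⟨fun i j ↦ x (i, j), ?_, fun i j ↦ by simpa using hxm (i, j)⟩
  ext i j
  have h := hx (i, j)
  rw [hev] at h
  simp only [Matrix.add_apply, Matrix.mul_apply, Matrix.transpose_apply, Finset.sum_mul]
  rw [← sub_eq_zero, ← h]
  congr 2
  exact Finset.sum_congr rfl fun l _ ↦ Finset.sum_congr rfl fun k _ ↦ by ring

/-- The Morse lemma: small deformations of a non-degenerate form. -/
theorem morse {m : ℕ} (U E : Matrix (Fin m) (Fin m) H) (hU : IsUnit (U + Uᵀ).det)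
    (hE : ∀ i j, E i j ∈ maximalIdeal H) (y : Fin m → H) :
    ∃ W : Matrix (Fin m) (Fin m) H, (∀ i j, W i j ∈ maximalIdeal H) ∧
      qf U (y + W *ᵥ y) = qf U y + qf E y := by
  let B := U + Uᵀ
  obtain ⟨X, hX, hXm⟩ := exists_matrix_root ((B⁻¹)ᵀ * U * B⁻¹) E hE
  have hBW : B * (B⁻¹ * X) = X := by rw [← Matrix.mul_assoc, Matrix.mul_nonsing_inv B hU, Matrix.one_mul]
  refine ⟨B⁻¹ * X, fun i j ↦ ?_, ?_⟩
  · rw [Matrix.mul_apply]
    exact Ideal.sum_mem _ fun l _ ↦ Ideal.mul_mem_left _ _ (hXm l j)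
  · have h1 : ((B⁻¹ * X) *ᵥ y) ⬝ᵥ (B *ᵥ y) = qf X y := by
      rw [← qf_transpose X]
      conv_rhs => rw [← hBW]
      simp only [qf, Matrix.transpose_mul]
      rw [← Matrix.transpose_mul B⁻¹ X, ← mulVec_mulVec y (B⁻¹ * X)ᵀ Bᵀ, dotProduct_mulVec y (B⁻¹ * X)ᵀ,
        vecMul_transpose, show Bᵀ = B from (by simp [B, Matrix.transpose_add, add_comm])]
    rw [qf_add, h1, qf_mulVec, add_assoc, ← qf_add_matrix]
    congr 2
    rw [← hX, Matrix.transpose_mul]
    simp only [Matrix.mul_assoc]

omit [HenselianLocalRing H] in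
theorem exists_qf_of_mem {m : ℕ} (I : Ideal H) (y : Fin m → H) {e : H}
    (he : e ∈ I * (Ideal.span (Set.range y) * Ideal.span (Set.range y))) :
    ∃ E : Matrix (Fin m) (Fin m) H, (∀ i j, E i j ∈ I) ∧ e = qf E y := by
  induction he using Submodule.mul_induction_on' with
  | mem_mul_mem a ha b hb =>
    have key : ∀ b ∈ Ideal.span (Set.range y) * Ideal.span (Set.range y),
        ∃ E : Matrix (Fin m) (Fin m) H, b = qf E y := by
      intro b hb
      induction hb using Submodule.mul_induction_on' with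
      | mem_mul_mem c hc d hd =>
        obtain ⟨r, rfl⟩ := (Ideal.mem_span_range_iff_exists_fun).1 hc
        obtain ⟨s, rfl⟩ := (Ideal.mem_span_range_iff_exists_fun).1 hd
        refine ⟨fun i j ↦ r i * s j, ?_⟩
        rw [qf_eq_sum, Finset.sum_mul_sum]
        exact Finset.sum_congr rfl fun i _ ↦ Finset.sum_congr rfl fun j _ ↦ by ring
      | add c _ d _ hc hd =>
        obtain ⟨E₁, rfl⟩ := hc
        obtain ⟨E₂, rfl⟩ := hd
        exact ⟨E₁ + E₂, (qf_add_matrix _ _ _).symm⟩
    obtain ⟨E, rfl⟩ := key b hb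
    exact ⟨a • E, fun i j ↦ I.mul_mem_right _ ha, (qf_smul_matrix _ _ _).symm⟩
  | add c _ d _ hc hd =>
    obtain ⟨E₁, h₁, rfl⟩ := hc
    obtain ⟨E₂, h₂, rfl⟩ := hd
    exact ⟨E₁ + E₂, fun i j ↦ add_mem (h₁ i j) (h₂ i j), (qf_add_matrix _ _ _).symm⟩

theorem span_eq_of_sub_mem {ι : Type*} [Finite ι] (y z : ι → H) (hy : Ideal.span (Set.range y) = maximalIdeal H)
    (h : ∀ i, z i - y i ∈ maximalIdeal H * maximalIdeal H) : Ideal.span (Set.range z) = maximalIdeal H := by
  have hle : ∀ i, z i ∈ maximalIdeal H := fun i ↦ by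
    have h1 : y i ∈ maximalIdeal H := hy ▸ Ideal.subset_span ⟨i, rfl⟩
    simpa using add_mem (Ideal.mul_le_left (h i)) h1
  refine le_antisymm (Ideal.span_le.2 (by rintro _ ⟨i, rfl⟩; exact hle i)) ?_
  refine Submodule.le_of_le_smul_of_le_jacobson_bot (hy ▸ Submodule.fg_span (Set.finite_range y))
    (maximalIdeal_le_jacobson _) ?_
  rw [smul_eq_mul]
  conv_lhs => rw [← hy]
  rw [Ideal.span_le]
  rintro _ ⟨i, rfl⟩
  have := Submodule.sub_mem (Ideal.span (Set.range z) ⊔ maximalIdeal H * maximalIdeal H)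
    (Submodule.mem_sup_left (Ideal.subset_span ⟨i, rfl⟩)) (Submodule.mem_sup_right (h i))
  simpa using this

end Hens

section Field

variable {k : Type u} [Field k] {N : ℕ}

/-- The upper triangular matrix of a table. -/
def upper (a : Fin N → Fin N → k) : Matrix (Fin N) (Fin N) k := fun i j ↦ if i ≤ j then a i j else 0

theorem quadEval_eq (a : Fin N → Fin N → k) (v : Fin N → k) : VanCyc.quadEval a v = qf (upper a) v := by
  rw [qf_eq_sum, VanCyc.quadEval]
  refine Finset.sum_congr rfl fun i _ ↦ Finset.sum_congr rfl fun j _ ↦ ?_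
  simp only [upper]
  split_ifs <;> ring

theorem polar_eq (a : Fin N → Fin N → k) : VanCyc.polarMatrix a = upper a + (upper a)ᵀ := by
  ext i j
  simp only [VanCyc.polarMatrix, upper, Matrix.add_apply, Matrix.transpose_apply]
  rcases lt_trichotomy i j with h | rfl | h
  · rw [if_neg h.ne, if_pos h, if_pos h.le, if_neg (not_le.2 h), add_zero]
  · simp [two_mul]
  · rw [if_neg h.ne', if_neg (not_lt.2 h.le), if_neg (not_le.2 h), if_pos h.le, zero_add]

end Field

section Ordinary

variable {k : Type u} [Field k] [IsAlgClosed k] {H : Type u} [CommRing H] [HenselianLocalRing H] [Algebra k H]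

/-- An approximate zero of an ordinary form by generators moves to a zero by generators. -/
theorem exists_zero_generators {n : ℕ} (a : Fin (n + 1) → Fin (n + 1) → k) (ha : VanCyc.QuadOrd a)
    (y : Fin (n + 1) → H) (hy : Ideal.span (Set.range y) = maximalIdeal H)
    (he : qf ((upper a).map (algebraMap k H)) y ∈ maximalIdeal H * (maximalIdeal H * maximalIdeal H)) :
    ∃ z : Fin (n + 1) → H, qf ((upper a).map (algebraMap k H)) z = 0 ∧
      Ideal.span (Set.range z) = maximalIdeal H ∧ ∀ i, z i - y i ∈ maximalIdeal H * maximalIdeal H := by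
  classical
  let ι := algebraMap k H
  let U := (upper a).map ι
  let B := upper a + (upper a)ᵀ
  have hy_mem : ∀ i, y i ∈ maximalIdeal H := fun i ↦ hy ▸ Ideal.subset_span ⟨i, rfl⟩
  have hsmall : ∀ {m : ℕ} (W : Matrix (Fin m) (Fin m) H) (w : Fin m → H),
      (∀ i j, W i j ∈ maximalIdeal H) → (∀ i, w i ∈ maximalIdeal H) →
      ∀ i, (W *ᵥ w) i ∈ maximalIdeal H * maximalIdeal H := fun W w hW hw i ↦ by
    rw [mulVec, dotProduct]
    exact Ideal.sum_mem _ fun j _ ↦ Ideal.mul_mem_mul (hW i j) (hw j)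
  by_cases hdet : B.det = 0
  · obtain ⟨v₀, hv₀, hBv₀⟩ := Matrix.exists_mulVec_eq_zero_iff.2 hdet
    obtain ⟨i₀, hi₀⟩ : ∃ i, v₀ i ≠ 0 := Function.ne_iff.1 hv₀
    let v := (v₀ i₀)⁻¹ • v₀
    have hv1 : v i₀ = 1 := by simp [v, hi₀]
    have hBv : B *ᵥ v = 0 := by rw [mulVec_smul, hBv₀, smul_zero]
    let c := qf (upper a) v
    have hc : c ≠ 0 := fun hc ↦ by
      have h0 := ha v (by rw [quadEval_eq]; exact hc) (by rw [polar_eq]; exact hBv)
      rw [h0] at hv1
      exact zero_ne_one hv1
    -- the complementary coordinates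
    let U' : Matrix (Fin n) (Fin n) H := U.submatrix i₀.succAbove i₀.succAbove
    let y' : Fin n → H := fun j ↦ y (i₀.succAbove j) - ι (v (i₀.succAbove j)) * y i₀
    have hcoord : ∀ (x₀ : H) (w : Fin n → H),
        qf U (i₀.insertNth 0 w + x₀ • (fun i ↦ ι (v i))) = ι c * x₀ ^ 2 + qf U' w := by
      intro x₀ w
      rw [qf_add]
      have h1 : qf U (i₀.insertNth 0 w) = qf U' w := by
        simp only [qf_eq_sum]
        rw [Fin.sum_univ_succAbove _ i₀]
        simp only [Fin.insertNth_apply_same, zero_mul, mul_zero, Finset.sum_const_zero, zero_add]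
        refine Finset.sum_congr rfl fun i _ ↦ ?_
        rw [Fin.sum_univ_succAbove _ i₀]
        simp [U']
      have h2 : qf U (x₀ • fun i ↦ ι (v i)) = ι c * x₀ ^ 2 := by
        simp only [qf_eq_sum, c, map_sum, Finset.sum_mul, Pi.smul_apply, smul_eq_mul, U, Matrix.map_apply,
          map_mul]
        refine Finset.sum_congr rfl fun i _ ↦ Finset.sum_congr rfl fun j _ ↦ ?_
        ring
      have h3 : (U + Uᵀ) *ᵥ (fun i ↦ ι (v i)) = 0 := by
        ext i
        have := congrArg ι (congrFun hBv i)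
        simpa [B, U, mulVec, dotProduct, map_sum] using this
      have h4 : (x₀ • fun i ↦ ι (v i)) ⬝ᵥ ((U + Uᵀ) *ᵥ i₀.insertNth 0 w) = 0 := by
        rw [dotProduct_mulVec, ← mulVec_transpose, Matrix.transpose_add, Matrix.transpose_transpose, add_comm Uᵀ,
          mulVec_smul, h3, smul_zero, zero_dotProduct]
      rw [h1, h2, h4]
      ring
    have hdet' : IsUnit (U' + U'ᵀ).det := by
      have h0 : (B.submatrix i₀.succAbove i₀.succAbove).det ≠ 0 := by
        intro h0
        obtain ⟨w, hw, hBw⟩ := Matrix.exists_mulVec_eq_zero_iff.2 h0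
        let wt : Fin (n + 1) → k := i₀.insertNth 0 w
        have hrest : ∀ j, (B *ᵥ wt) (i₀.succAbove j) = 0 := fun j ↦ by
          have := congrFun hBw j
          simp only [mulVec, dotProduct] at this ⊢
          rw [Fin.sum_univ_succAbove _ i₀]
          simpa [wt] using this
        have hBwt : B *ᵥ wt = 0 := by
          have hsym : Bᵀ = B := by simp [B, Matrix.transpose_add, add_comm]
          have h1 : v ⬝ᵥ (B *ᵥ wt) = 0 := by
            rw [dotProduct_mulVec, ← mulVec_transpose, hsym, hBv, zero_dotProduct]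
          rw [dotProduct, Fin.sum_univ_succAbove _ i₀] at h1
          simp only [hrest, mul_zero, Finset.sum_const_zero, add_zero, hv1, one_mul] at h1
          ext i
          rcases Fin.eq_self_or_eq_succAbove i₀ i with rfl | ⟨j, rfl⟩
          · exact h1
          · exact hrest j
        obtain ⟨t, ht⟩ := IsAlgClosed.exists_pow_nat_eq (-(qf (upper a) wt) / c) (n := 2) two_pos
        have h2 : wt + t • v = 0 := by
          refine ha _ ?_ ?_
          · rw [quadEval_eq, qf_add]
            have h3 : (t • v) ⬝ᵥ (B *ᵥ wt) = 0 := by rw [hBwt, dotProduct_zero]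
            have h4 : qf (upper a) (t • v) = t ^ 2 * c := by
              simp only [qf_eq_sum, c, Finset.mul_sum, Pi.smul_apply, smul_eq_mul]
              exact Finset.sum_congr rfl fun i _ ↦ Finset.sum_congr rfl fun j _ ↦ by ring
            rw [h3, h4, ht, div_mul_cancel₀ _ hc]
            ring
          · rw [polar_eq, mulVec_add, mulVec_smul, hBwt, hBv, smul_zero, add_zero]
        have ht0 : t = 0 := by
          have := congrFun h2 i₀
          simpa [wt, hv1] using this
        apply hw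
        ext j
        have := congrFun h2 (i₀.succAbove j)
        simpa [wt, ht0] using this
      have hmap : U' + U'ᵀ = (B.submatrix i₀.succAbove i₀.succAbove).map ι := by
        ext i j
        simp [U', U, B]
      rw [hmap, ← RingHom.mapMatrix_apply, ← RingHom.map_det]
      exact (isUnit_iff_ne_zero.2 h0).map ι
    have hyeq : y = i₀.insertNth 0 y' + y i₀ • (fun i ↦ ι (v i)) := by
      ext i
      rcases Fin.eq_self_or_eq_succAbove i₀ i with rfl | ⟨j, rfl⟩
      · simp [hv1]
      · simp [y']; ring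
    let J := Ideal.span (Set.range y')
    have hmax : maximalIdeal H ≤ Ideal.span {y i₀} ⊔ J := by
      rw [← hy, Ideal.span_le]
      rintro _ ⟨i, rfl⟩
      rcases Fin.eq_self_or_eq_succAbove i₀ i with rfl | ⟨j, rfl⟩
      · exact Submodule.mem_sup_left (Ideal.mem_span_singleton_self _)
      · have h1 : y (i₀.succAbove j) = y' j + ι (v (i₀.succAbove j)) * y i₀ := by simp [y']
        rw [h1]
        exact add_mem (Submodule.mem_sup_right (Ideal.subset_span ⟨j, rfl⟩))
          (Submodule.mem_sup_left (Ideal.mul_mem_left _ _ (Ideal.mem_span_singleton_self _)))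
    have hy'm : ∀ j, y' j ∈ maximalIdeal H := fun j ↦ sub_mem (hy_mem _) (Ideal.mul_mem_left _ _ (hy_mem _))
    have hJle : J ≤ maximalIdeal H := Ideal.span_le.2 (by rintro _ ⟨j, rfl⟩; exact hy'm j)
    have hcube : maximalIdeal H * (maximalIdeal H * maximalIdeal H) ≤
        Ideal.span {y i₀ ^ 2} * maximalIdeal H ⊔ maximalIdeal H * (J * J) := by
      have hS : Ideal.span {y i₀} ≤ maximalIdeal H := (Ideal.span_singleton_le_iff_mem _).2 (hy_mem _)
      refine (Ideal.mul_mono hmax (Ideal.mul_mono hmax hmax)).trans ?_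
      rw [show y i₀ ^ 2 = y i₀ * y i₀ from sq _, ← Ideal.span_singleton_mul_span_singleton]
      generalize Ideal.span {y i₀} = S at hS
      generalize maximalIdeal H = M at hS hJle
      simp only [Ideal.mul_sup, Ideal.sup_mul]
      have e1 : ∀ X, X ≤ M → S * S * X ≤ S * S * M ⊔ M * (J * J) := fun X hX ↦
        (Ideal.mul_mono le_rfl hX).trans le_sup_left
      have e2 : ∀ X, X ≤ M → X * (J * J) ≤ S * S * M ⊔ M * (J * J) := fun X hX ↦
        (Ideal.mul_mono hX le_rfl).trans le_sup_right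
      refine sup_le (sup_le (sup_le ?_ ?_) (sup_le ?_ ?_)) (sup_le (sup_le ?_ ?_) (sup_le ?_ ?_))
      all_goals first
        | (convert e1 S hS using 1 <;> ring1) | (convert e1 J hJle using 1 <;> ring1)
        | (convert e2 S hS using 1 <;> ring1) | (convert e2 J hJle using 1 <;> ring1)
    obtain ⟨p, hp, r, hr, hpr⟩ := Submodule.mem_sup.1 (hcube he)
    obtain ⟨α, hα, rfl⟩ := Ideal.mem_span_singleton_mul.1 hp
    obtain ⟨E, hE, rfl⟩ := exists_qf_of_mem _ y' hr
    have hQy : qf U y = ι c * y i₀ ^ 2 + qf U' y' := by conv_lhs => rw [hyeq, hcoord]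
    have hmem0 : IsUnit (ι c) := (isUnit_iff_ne_zero.2 hc).map ι
    obtain ⟨b, hb⟩ : IsUnit (ι c - α) := by
      refine notMem_maximalIdeal.1 fun h ↦ ?_
      exact notMem_maximalIdeal.2 hmem0 (by simpa using add_mem h hα)
    let binv : H := ↑b⁻¹
    have hbinv : binv * (ι c - α) = 1 := by rw [← hb]; exact Units.inv_mul b
    let E' := (binv * α) • U' + (-(binv * ι c)) • E
    obtain ⟨W, hW, hWeq⟩ := morse U' E' hdet' (fun i j ↦ by
      simp only [E', Matrix.add_apply, Matrix.smul_apply, smul_eq_mul]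
      exact add_mem (Ideal.mul_mem_right _ _ (Ideal.mul_mem_left _ _ hα))
        (Ideal.mul_mem_left _ _ (hE i j))) y'
    have hclose : ∀ i, (i₀.insertNth 0 (y' + W *ᵥ y') + y i₀ • fun i ↦ ι (v i) : Fin (n + 1) → H) i - y i ∈
        maximalIdeal H * maximalIdeal H := fun i ↦ by
      rcases Fin.eq_self_or_eq_succAbove i₀ i with rfl | ⟨j, rfl⟩
      · simp [hv1]
      · have := hsmall W y' hW hy'm j
        simpa [y', add_comm, add_left_comm, add_assoc, sub_eq_add_neg, mul_comm] using this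
    refine ⟨i₀.insertNth 0 (y' + W *ᵥ y') + y i₀ • (fun i ↦ ι (v i)), ?_, span_eq_of_sub_mem y _ hy hclose, hclose⟩
    · show qf U _ = 0
      rw [hcoord, hWeq, qf_add_matrix, qf_smul_matrix, qf_smul_matrix]
      have h5 : y i₀ ^ 2 * α + qf E y' = ι c * y i₀ ^ 2 + qf U' y' := hpr.trans hQy
      linear_combination (-(binv * ι c)) * h5 + (-(ι c * y i₀ ^ 2 + qf U' y')) * hbinv
  · have hU : IsUnit (U + Uᵀ).det := by
      have hmap : U + Uᵀ = B.map ι := by
        ext i j
        simp [U, B]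
      rw [hmap, ← RingHom.mapMatrix_apply, ← RingHom.map_det]
      exact (isUnit_iff_ne_zero.2 hdet).map ι
    obtain ⟨E, hE, hEq⟩ := exists_qf_of_mem (maximalIdeal H) y (by rw [hy]; exact he)
    obtain ⟨W, hW, hWeq⟩ := morse U ((-1 : H) • E) hU
      (fun i j ↦ by simp only [Matrix.smul_apply, smul_eq_mul]; exact Ideal.mul_mem_left _ _ (hE i j)) y
    have hclose : ∀ i, (y + W *ᵥ y) i - y i ∈ maximalIdeal H * maximalIdeal H := fun i ↦ by
      simpa using hsmall W y hW hy_mem i
    refine ⟨y + W *ᵥ y, ?_, span_eq_of_sub_mem y _ hy hclose, hclose⟩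
    show qf U _ = 0
    rw [hWeq, qf_smul_matrix, ← hEq]
    ring

end Ordinary

end GrothLib.OrdHens1
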