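import Mathlib
import Groth.Agent.Lib.OrdHens1.Morse
import Groth.Agent.Lib.JacQuad10.Point
import Groth.Agent.Lib.Morse.Morse
import Groth.Agent.Lib.CMMor6.Algebra

/-!
# The completed cone and flatness
-/

set_option autoImplicit false
set_option backward.isDefEq.respectTransparency false
set_option linter.style.haveILetI false

universe u

open IsLocalRing

namespace GrothLib.OrdHens1

variable {k : Type u} [Field k] {N : ℕ}

local notation "P" => MvPowerSeries (Fin N) k

theorem quadPoly_ne_zero [NeZero N] (a : Fin N → Fin N → k) (ha : VanCyc.QuadOrd a) :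
    ∃ p r : Fin N, p ≤ r ∧ a p r ≠ 0 := by
  by_contra hcon
  simp only [not_exists, not_and, not_not] at hcon
  have hz : ∀ i j : Fin N, (if i ≤ j then a i j else 0) = 0 := fun i j ↦ by
    split_ifs with h
    · exact hcon i j h
    · rfl
  have hu : upper a = 0 := by ext i j; exact hz i j
  have h := ha 1 (by rw [quadEval_eq, hu]; simp [qf]) (by rw [polar_eq, hu]; simp)
  exact one_ne_zero (congrFun h 0)

theorem aeval_quadPoly_eq_qf {S : Type*} [CommRing S] [Algebra k S] (a : Fin N → Fin N → k) (v : Fin N → S) :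
    MvPolynomial.aeval v (VanCyc.quadPoly a) = qf ((upper a).map (algebraMap k S)) v := by
  rw [qf_eq_sum, VanCyc.quadPoly, map_sum]
  refine Finset.sum_congr rfl fun i _ ↦ ?_
  rw [map_sum]
  refine Finset.sum_congr rfl fun j _ ↦ ?_
  simp only [upper, Matrix.map_apply]
  split_ifs with h
  · simp only [map_mul, MvPolynomial.aeval_C, MvPolynomial.aeval_X]; ring
  · simp

theorem series_sub_quad {f : P} (hf : VanCyc.NoLowTerms f) :
    f - (VanCyc.quadPoly (VanCyc.quadPart f) : MvPolynomial (Fin N) k) ∈ maximalIdeal P ^ 3 := by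
  refine GrothLib.QuadSeries.mem_max_pow fun d hd ↦ ?_
  rw [map_sub]
  rcases Nat.lt_or_ge d.degree 2 with h2 | h2
  · rw [GrothLib.Morse.coeff_coe_quadPoly_of_degree_ne _ (by omega), sub_zero]
    rcases Nat.eq_zero_or_pos d.degree with h0 | h0
    · obtain rfl : d = 0 := (Finsupp.degree_eq_zero_iff d).1 h0
      rw [MvPowerSeries.coeff_zero_eq_constantCoeff]
      exact hf.1
    · obtain ⟨i, rfl⟩ := GrothLib.Morse.eq_single_of_degree_eq_one (show d.degree = 1 by omega)
      exact hf.2 i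
  · obtain ⟨p, r, hpr, rfl⟩ := GrothLib.Morse.eq_add_of_degree_eq_two (show d.degree = 2 by omega)
    rw [GrothLib.Morse.coeff_coe_quadPoly _ hpr, VanCyc.quadPart]
    rcases eq_or_ne p r with rfl | hne
    · rw [if_pos rfl, ← Finsupp.single_add, sub_self]
    · rw [if_neg hne, if_pos (lt_of_le_of_ne hpr hne), sub_self]

theorem coeff_eq_zero_of_mem {n : ℕ} {g : P} (h : g ∈ maximalIdeal P ^ n) {d : Fin N →₀ ℕ} (hd : d.degree < n) :
    MvPowerSeries.coeff d g = 0 := by
  have key : ∀ n, ∀ g ∈ maximalIdeal P ^ n, GrothLib.Morse.OrdGE n g := by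
    intro n
    induction n with
    | zero => exact fun g _ ↦ GrothLib.Morse.ordGE_zero g
    | succ n ih =>
      intro g hg
      rw [pow_succ] at hg
      refine Submodule.mul_induction_on hg (fun x hx y hy ↦ ?_) fun x y hx hy ↦ hx.add hy
      refine (ih x hx).mul (b := 1) fun e he ↦ ?_
      obtain rfl : e = 0 := (Finsupp.degree_eq_zero_iff e).1 (by omega)
      rw [MvPowerSeries.coeff_zero_eq_constantCoeff]
      exact GrothLib.QuadSeries.mem_max.1 hy
  exact key n g h d hd

theorem quad_not_mem [NeZero N] (a : Fin N → Fin N → k) (ha : VanCyc.QuadOrd a) (c : k)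
    (h : (MvPowerSeries.C c : P) * ((VanCyc.quadPoly a : MvPolynomial (Fin N) k) : P) ∈ maximalIdeal P ^ 3) : c = 0 := by
  obtain ⟨p, r, hpr, hne⟩ := quadPoly_ne_zero a ha
  have h0 : MvPowerSeries.coeff (Finsupp.single p 1 + Finsupp.single r 1)
      ((MvPowerSeries.C c : P) * ((VanCyc.quadPoly a : MvPolynomial (Fin N) k) : P)) = 0 := by
    refine coeff_eq_zero_of_mem h ?_
    simp [Finsupp.degree_single]
  rw [MvPowerSeries.coeff_C_mul, GrothLib.Morse.coeff_coe_quadPoly _ hpr] at h0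
  exact (mul_eq_zero.1 h0).resolve_right hne

/-- Second order perturbations of the coordinates change a quadratic form in third order. -/
theorem quad_congr (c : Fin N → Fin N → k) (p : Fin N → P)
    (hp : ∀ i, p i - MvPowerSeries.X i ∈ maximalIdeal P ^ 2) :
    (MvPolynomial.aeval p (VanCyc.quadPoly c) : P) - ((VanCyc.quadPoly c : MvPolynomial (Fin N) k) : P) ∈
      maximalIdeal P ^ 3 := by
  let Q := VanCyc.quadPoly c
  have hX : ∀ i, (MvPowerSeries.X i : P) ∈ maximalIdeal P := fun i ↦ by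
    rw [GrothLib.QuadSeries.maximalIdeal_eq]; exact Ideal.subset_span ⟨i, rfl⟩
  have hQX : ((VanCyc.quadPoly c : MvPolynomial (Fin N) k) : P) = MvPolynomial.aeval (fun i ↦ (MvPowerSeries.X i : P)) Q := by
    have := MvPowerSeries.subst_coe (R := k) (a := fun i ↦ (MvPowerSeries.X i : P)) Q
    rw [← this]
    exact (congrFun (MvPowerSeries.subst_self (R := k)) _).symm
  rw [hQX, aeval_quadPoly_eq_qf, aeval_quadPoly_eq_qf,
    qf_eq_sum, qf_eq_sum, ← Finset.sum_sub_distrib]
  refine Ideal.sum_mem _ fun i _ ↦ ?_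
  rw [← Finset.sum_sub_distrib]
  refine Ideal.sum_mem _ fun j _ ↦ ?_
  rw [← mul_sub]
  refine Ideal.mul_mem_left _ _ ?_
  have e : p i * p j - MvPowerSeries.X i * MvPowerSeries.X j =
      (p i - MvPowerSeries.X i) * p j + MvPowerSeries.X i * (p j - MvPowerSeries.X j) := by ring
  rw [e]
  have hpj : p j ∈ maximalIdeal P := by
    simpa using add_mem (Ideal.pow_le_self two_ne_zero (hp j)) (hX j)
  refine add_mem ?_ ?_
  · rw [show (3 : ℕ) = 2 + 1 from rfl, pow_add, pow_one]; exact Ideal.mul_mem_mul (hp i) hpj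
  · rw [show (3 : ℕ) = 1 + 2 from rfl, pow_add, pow_one]; exact Ideal.mul_mem_mul (hX i) (hp j)

/-- Generators congruent to the coordinates identify the two completed cones. -/
theorem exists_cone_equiv [NeZero N] {f : P} (hf : VanCyc.OrdQuadSeries f) (p : Fin N → P)
    (hp : ∀ i, p i - MvPowerSeries.X i ∈ maximalIdeal P ^ 2)
    (hQ : MvPolynomial.aeval p (VanCyc.quadPoly (VanCyc.quadPart f)) ∈ Ideal.span {f}) :
    ∃ β : (P ⧸ Ideal.span {((VanCyc.quadPoly (VanCyc.quadPart f) : MvPolynomial (Fin N) k) : P)}) ≃+*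
        (P ⧸ Ideal.span {f}),
      ∀ q : MvPolynomial (Fin N) k, β (Ideal.Quotient.mk _ (q : P)) =
        Ideal.Quotient.mk _ (MvPolynomial.aeval p q) := by
  let Q : MvPolynomial (Fin N) k := VanCyc.quadPoly (VanCyc.quadPart f)
  have hg : ∀ i, GrothLib.Morse.OrdGE 2 (p i - MvPowerSeries.X i) := fun i d hd ↦
    coeff_eq_zero_of_mem (hp i) hd
  obtain ⟨φ, hφ, -⟩ := GrothLib.Morse.exists_shift_equiv hg
  have hφp : ∀ q : MvPolynomial (Fin N) k, φ (q : P) = MvPolynomial.aeval p q := fun q ↦ by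
    rw [hφ, MvPowerSeries.subst_coe]
    congr 2
    funext i
    ring
  have hQ3 : (MvPolynomial.aeval p Q : P) - (Q : P) ∈ maximalIdeal P ^ 3 := quad_congr _ p hp
  obtain ⟨w, hw⟩ := Ideal.mem_span_singleton'.1 hQ
  have hw1 : MvPowerSeries.constantCoeff w = 1 := by
    have h3 := series_sub_quad hf.1
    have hf2 : f ∈ maximalIdeal P ^ 2 := GrothLib.QuadSeries.mem_max_pow fun d hd ↦ by
      rcases Nat.eq_zero_or_pos d.degree with h0 | h0
      · obtain rfl : d = 0 := (Finsupp.degree_eq_zero_iff d).1 h0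
        rw [MvPowerSeries.coeff_zero_eq_constantCoeff]; exact hf.1.1
      · obtain ⟨i, rfl⟩ := GrothLib.Morse.eq_single_of_degree_eq_one (show d.degree = 1 by omega)
        exact hf.1.2 i
    have hwc : w - MvPowerSeries.C (MvPowerSeries.constantCoeff w) ∈ maximalIdeal P :=
      GrothLib.QuadSeries.mem_max.2 (by simp)
    have h4 : MvPowerSeries.C (1 - MvPowerSeries.constantCoeff w) * (Q : P) ∈ maximalIdeal P ^ 3 := by
      have e : MvPowerSeries.C (1 - MvPowerSeries.constantCoeff w) * (Q : P) =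
          -((MvPolynomial.aeval p Q : P) - (Q : P)) + (w - MvPowerSeries.C (MvPowerSeries.constantCoeff w)) * f
            + MvPowerSeries.C (MvPowerSeries.constantCoeff w) * (f - (Q : P)) := by
        rw [map_sub, map_one, ← hw]
        ring
      rw [e]
      refine add_mem (add_mem (neg_mem hQ3) ?_) (Ideal.mul_mem_left _ _ h3)
      rw [show (3 : ℕ) = 1 + 2 from rfl, pow_add, pow_one]
      exact Ideal.mul_mem_mul hwc hf2
    exact (sub_eq_zero.1 (quad_not_mem _ hf.2 _ h4)).symm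
  have hwu : IsUnit w := MvPowerSeries.isUnit_iff_constantCoeff.2 (by rw [hw1]; exact isUnit_one)
  have hspan : Ideal.span {f} = (Ideal.span {(Q : P)}).map φ.toRingEquiv.toRingHom := by
    rw [Ideal.map_span, Set.image_singleton]
    show Ideal.span {f} = Ideal.span {φ (Q : P)}
    rw [hφp, ← hw]
    exact (Ideal.span_singleton_mul_left_unit hwu f).symm
  exact ⟨Ideal.quotientEquiv _ _ φ.toRingEquiv hspan, fun q ↦ by
    rw [Ideal.quotientEquiv_mk]
    exact congrArg _ (hφp q)⟩

theorem originIdeal_eq : VanCyc.originIdeal (N := N) k = GrothLib.JacQuad10.mP (0 : Fin N → k) := by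
  rw [VanCyc.originIdeal, maximalIdeal_eq_bot, Ideal.map_bot, bot_sup_eq]
  refine le_antisymm (Ideal.span_le.2 (by rintro _ ⟨i, rfl⟩; simp [GrothLib.JacQuad10.mP])) fun q hq ↦ ?_
  have h := MvPolynomial.mem_pow_idealOfVars_iff' (σ := Fin N) (R := k) 1 q
  rw [pow_one] at h
  refine h.2 fun x hx ↦ ?_
  obtain rfl : x = 0 := (Finsupp.degree_eq_zero_iff x).1 (by omega)
  have hq' : MvPolynomial.eval (0 : Fin N → k) q = 0 := hq
  rwa [MvPolynomial.eval_zero] at hq'

theorem mem_originQuot (a : Fin N → Fin N → k) (q : MvPolynomial (Fin N) k) :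
    Ideal.Quotient.mk _ q ∈ VanCyc.originQuot k a 0 ↔ MvPolynomial.constantCoeff q = 0 := by
  have hQ : VanCyc.quadPoly a - MvPolynomial.C 0 ∈ VanCyc.originIdeal (N := N) k := by
    rw [originIdeal_eq, GrothLib.JacQuad10.mP, RingHom.mem_ker, map_zero, sub_zero, MvPolynomial.eval_zero]
    simp [VanCyc.quadPoly, map_sum, apply_ite MvPolynomial.constantCoeff]
  have hc : (VanCyc.originQuot k a 0).comap (Ideal.Quotient.mk _) = VanCyc.originIdeal (N := N) k := by
    rw [VanCyc.originQuot, Ideal.comap_map_of_surjective _ Ideal.Quotient.mk_surjective, ← RingHom.ker_eq_comap_bot,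
      Ideal.mk_ker, sup_eq_left, Ideal.span_singleton_le_iff_mem]
    exact hQ
  rw [← Ideal.mem_comap, hc, originIdeal_eq, GrothLib.JacQuad10.mP, RingHom.mem_ker, MvPolynomial.eval_zero]

theorem flat_of_completion {C0 R' T S : Type u} [CommRing C0] [IsLocalRing C0] [IsNoetherianRing C0]
    [CommRing R'] [Algebra C0 R'] [CommRing T] [CommRing S] (ρ : C0 →+* T)
    (hsurj : ∀ (n : ℕ) (c : T), ∃ d, c - ρ d ∈ (maximalIdeal C0 ^ n).map ρ)
    (hinj : ∀ (n : ℕ) (d : C0), ρ d ∈ (maximalIdeal C0 ^ n).map ρ → d ∈ maximalIdeal C0 ^ n)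
    (haus : ∀ c : T, (∀ n, c ∈ (maximalIdeal C0 ^ n).map ρ) → c = 0)
    (hprec : ∀ x : ℕ → T, (∀ n, x (n + 1) - x n ∈ (maximalIdeal C0 ^ n).map ρ) →
      ∃ l, ∀ n, x n - l ∈ (maximalIdeal C0 ^ n).map ρ)
    (γ : T ≃+* S) (ε : R' →+* S) (hε : ε.FaithfullyFlat)
    (hcomm : ∀ x, γ (ρ x) = ε (algebraMap C0 R' x)) : Module.Flat C0 R' := by
  obtain ⟨e, he⟩ := GrothLib.ComplAlg.exists_equiv_adicCompletion ρ (maximalIdeal C0) hsurj hinj haus hprec
  letI : Algebra C0 T := ρ.toAlgebra
  haveI : Module.Flat C0 T := by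
    refine Module.Flat.of_linearEquiv (AlgEquiv.ofRingEquiv (f := e) (fun d ↦ ?_)).toLinearEquiv
    exact he d
  letI : Algebra R' S := ε.toAlgebra
  letI : Algebra C0 S := (ε.comp (algebraMap C0 R')).toAlgebra
  haveI : IsScalarTower C0 R' S := .of_algebraMap_eq fun _ ↦ rfl
  haveI : Module.FaithfullyFlat R' S := hε
  haveI : Module.Flat C0 S :=
    Module.Flat.of_linearEquiv (AlgEquiv.ofRingEquiv (f := γ.symm) (fun d ↦ by
      rw [RingEquiv.symm_apply_eq]; exact (hcomm d).symm)).toLinearEquiv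
  exact GrothLib.CMMor6.flat_of_faithfullyFlat_comp (C := S)

/-- Flatness of the local map from the cone. -/
theorem flat_of_cone [NeZero N] {f : P} (hf : VanCyc.OrdQuadSeries f)
    [(VanCyc.originQuot k (VanCyc.quadPart f) 0).IsPrime]
    {R' : Type u} [CommRing R'] [Algebra (Localization.AtPrime (VanCyc.originQuot k (VanCyc.quadPart f) 0)) R']
    [Algebra k R'] [IsScalarTower k (Localization.AtPrime (VanCyc.originQuot k (VanCyc.quadPart f) 0)) R']
    (ε : R' →ₐ[k] P ⧸ Ideal.span {f}) (hε : ε.toRingHom.FaithfullyFlat) (p : Fin N → P)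
    (hp : ∀ i, p i - MvPowerSeries.X i ∈ maximalIdeal P ^ 2)
    (hεp : ∀ i, ε (algebraMap (Localization.AtPrime (VanCyc.originQuot k (VanCyc.quadPart f) 0)) R'
      (algebraMap (VanCyc.quadRing k (VanCyc.quadPart f) 0) _ (Ideal.Quotient.mk _ (MvPolynomial.X i)))) = Ideal.Quotient.mk _ (p i)) :
    Module.Flat (Localization.AtPrime (VanCyc.originQuot k (VanCyc.quadPart f) 0)) R' := by
  let χ : (VanCyc.quadRing k (VanCyc.quadPart f) 0) →ₐ[k] P ⧸ Ideal.span {f} :=
    (ε.comp (IsScalarTower.toAlgHom k (Localization.AtPrime (VanCyc.originQuot k (VanCyc.quadPart f) 0)) R')).comp (IsScalarTower.toAlgHom k (VanCyc.quadRing k (VanCyc.quadPart f) 0) (Localization.AtPrime (VanCyc.originQuot k (VanCyc.quadPart f) 0)))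
  have hmk : ∀ q : MvPolynomial (Fin N) k, χ (Ideal.Quotient.mk _ q) = Ideal.Quotient.mk _ (MvPolynomial.aeval p q) := by
    have h : χ.comp (Ideal.Quotient.mkₐ k _) = (Ideal.Quotient.mkₐ k _).comp (MvPolynomial.aeval p) :=
      MvPolynomial.algHom_ext fun i ↦ by simpa [χ] using hεp i
    exact fun q ↦ AlgHom.congr_fun h q
  have hQmem : MvPolynomial.aeval p (VanCyc.quadPoly (VanCyc.quadPart f)) ∈ Ideal.span {f} := by
    have h := hmk (VanCyc.quadPoly (VanCyc.quadPart f) - MvPolynomial.C 0)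
    rw [Ideal.Quotient.eq_zero_iff_mem.2 (Ideal.mem_span_singleton_self _), map_zero, eq_comm,
      Ideal.Quotient.eq_zero_iff_mem] at h
    simpa using h
  obtain ⟨β, hβ⟩ := exists_cone_equiv hf p hp hQmem
  have hPi : (VanCyc.originQuot k (VanCyc.quadPart f) 0).comap (Ideal.Quotient.mk (Ideal.span {(VanCyc.quadPoly (VanCyc.quadPart f) - MvPolynomial.C 0)})) = GrothLib.JacQuad10.mP (0 : Fin N → k) := by
    ext q
    rw [Ideal.mem_comap, mem_originQuot, GrothLib.JacQuad10.mP, RingHom.mem_ker, MvPolynomial.eval_zero]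
  have hQ0 : MvPolynomial.eval (0 : Fin N → k) (VanCyc.quadPoly (VanCyc.quadPart f) - MvPolynomial.C 0) = 0 := by
    have h : Ideal.Quotient.mk (Ideal.span {(VanCyc.quadPoly (VanCyc.quadPart f) - MvPolynomial.C 0)}) (VanCyc.quadPoly (VanCyc.quadPart f) - MvPolynomial.C 0) ∈ (VanCyc.originQuot k (VanCyc.quadPart f) 0) := by
      rw [Ideal.Quotient.eq_zero_iff_mem.2 (Ideal.mem_span_singleton_self _)]; exact zero_mem _
    rw [← Ideal.mem_comap, hPi] at h
    exact h
  obtain ⟨ρ, hρ, hpow, hsurj, hinj⟩ := GrothLib.JacQuad10.exists_localHom (0 : Fin N → k) (VanCyc.quadPoly (VanCyc.quadPart f) - MvPolynomial.C 0) hQ0 (VanCyc.originQuot k (VanCyc.quadPart f) 0) hPi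
  have htay : ∀ q : MvPolynomial (Fin N) k, GrothLib.JacQuad10.taylor (0 : Fin N → k) q = (q : P) := fun q ↦ by
    rw [GrothLib.JacQuad10.taylor_apply, GrothLib.JacQuad10.shift_zero]
  let T := P ⧸ Ideal.span {GrothLib.JacQuad10.taylor (0 : Fin N → k) (VanCyc.quadPoly (VanCyc.quadPart f) - MvPolynomial.C 0)}
  have hTQ : GrothLib.JacQuad10.taylor (0 : Fin N → k) (VanCyc.quadPoly (VanCyc.quadPart f) - MvPolynomial.C 0) = ((VanCyc.quadPoly (VanCyc.quadPart f) : MvPolynomial (Fin N) k) : P) := by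
    rw [htay]; simp
  let γ : T ≃+* P ⧸ Ideal.span {f} := (Ideal.quotEquivOfEq (by rw [hTQ])).trans β
  have hcomm : ∀ x : (Localization.AtPrime (VanCyc.originQuot k (VanCyc.quadPart f) 0)), γ (ρ x) = ε (algebraMap (Localization.AtPrime (VanCyc.originQuot k (VanCyc.quadPart f) 0)) R' x) := by
    refine fun x ↦ RingHom.congr_fun (IsLocalization.ringHom_ext (VanCyc.originQuot k (VanCyc.quadPart f) 0).primeCompl
      (j := γ.toRingHom.comp ρ) (k := ε.toRingHom.comp (algebraMap (Localization.AtPrime (VanCyc.originQuot k (VanCyc.quadPart f) 0)) R')) ?_) x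
    refine Ideal.Quotient.ringHom_ext (RingHom.ext fun q ↦ ?_)
    show γ (ρ (algebraMap (VanCyc.quadRing k (VanCyc.quadPart f) 0) (Localization.AtPrime (VanCyc.originQuot k (VanCyc.quadPart f) 0)) (Ideal.Quotient.mk _ q))) = ε (algebraMap (Localization.AtPrime (VanCyc.originQuot k (VanCyc.quadPart f) 0)) R' (algebraMap (VanCyc.quadRing k (VanCyc.quadPart f) 0) (Localization.AtPrime (VanCyc.originQuot k (VanCyc.quadPart f) 0)) (Ideal.Quotient.mk _ q)))
    rw [hρ, htay q]
    show β (Ideal.Quotient.mk _ (q : P)) = _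
    rw [hβ]
    exact (hmk q).symm
  haveI : IsNoetherianRing (Localization.AtPrime (VanCyc.originQuot k (VanCyc.quadPart f) 0)) := IsLocalization.isNoetherianRing (VanCyc.originQuot k (VanCyc.quadPart f) 0).primeCompl _ inferInstance
  haveI : IsNoetherianRing P := inferInstance
  haveI : Nontrivial T := Ideal.Quotient.nontrivial_iff.2 fun htop ↦ by
    rw [Ideal.span_singleton_eq_top, htay, MvPowerSeries.isUnit_iff_constantCoeff] at htop
    refine htop.ne_zero ?_
    have h0 := hQ0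
    rw [MvPolynomial.eval_zero] at h0
    rw [← MvPowerSeries.coeff_zero_eq_constantCoeff, MvPolynomial.coeff_coe]
    exact h0
  haveI : IsLocalRing T := IsLocalRing.of_surjective' _ Ideal.Quotient.mk_surjective
  haveI : IsLocalHom (Ideal.Quotient.mk (Ideal.span {GrothLib.JacQuad10.taylor (0 : Fin N → k)
      (VanCyc.quadPoly (VanCyc.quadPart f) - MvPolynomial.C 0)} : Ideal P)) :=
    IsLocalHom.of_surjective _ Ideal.Quotient.mk_surjective
  refine flat_of_completion ρ (fun n c ↦ by rw [hpow]; exact hsurj n c) (fun n d hd ↦ hinj n d (by rwa [hpow] at hd))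
    (fun c hc ↦ ?_) (fun x hx ↦ ?_) γ ε.toRingHom hε hcomm
  · have h : c ∈ ⨅ n, maximalIdeal T ^ n := (Submodule.mem_iInf _).2 fun n ↦ by
      have h1 := hc n
      rw [hpow, Ideal.map_pow] at h1
      refine Ideal.pow_right_mono ?_ n h1
      exact ((IsLocalRing.local_hom_TFAE _).out 0 2 rfl rfl).mp ‹_›
    rwa [Ideal.iInf_pow_eq_bot_of_isLocalRing _ (maximalIdeal.isMaximal T).ne_top] at h
  · choose y hy using fun n ↦ Ideal.Quotient.mk_surjective (x n)
    obtain ⟨z, hz, hzc⟩ := GrothLib.JacQuad10.exists_lift_seq _ y fun n ↦ by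
      have h := hx n
      rw [hpow, ← hy, ← hy, ← map_sub, Ideal.mem_quotient_iff_mem_sup, sup_comm] at h
      exact h
    obtain ⟨l, hl⟩ := GrothLib.JacQuad10.exists_limit z hzc
    refine ⟨Ideal.Quotient.mk _ l, fun n ↦ ?_⟩
    rw [hpow, ← hy, ← Ideal.Quotient.eq.2 (hz n), ← map_sub]
    exact Ideal.mem_map_of_mem _ (hl n)

end GrothLib.OrdHens1
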