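import Mathlib
import Groth.Agent.Lib.Hensel.MultivarRoot
import Groth.Agent.Lib.Hensel.Henselization
import Groth.Agent.Lib.Hensel.Local
import Groth.Agent.Lib.LocProp.AtPrime

/-!
# Henselizations and local étale neighbourhoods
-/

set_option autoImplicit false
set_option linter.style.haveILetI false

universe u

open IsLocalRing

namespace GrothLib.OrdHens1

variable {R R' : Type u} [CommRing R] [IsLocalRing R] [CommRing R'] [IsLocalRing R'] [Algebra R R']
  [IsLocalHom (algebraMap R R')]

/-- The residue fields coincide. -/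
def ResidueSurj (R R' : Type u) [CommRing R] [CommRing R'] [IsLocalRing R'] [Algebra R R'] : Prop :=
  ∀ x : R', ∃ r : R, x - algebraMap R R' r ∈ maximalIdeal R'

/-- Lifts along a local unramified neighbourhood with trivial residue extension are unique. -/
theorem ext_local [Algebra.EssFiniteType R R'] [Algebra.FormallyUnramified R R'] (hres : ResidueSurj R R')
    {T : Type u} [CommRing T] [IsLocalRing T] (g₁ g₂ : R' →+* T) [IsLocalHom g₁] [IsLocalHom g₂]
    (h : g₁.comp (algebraMap R R') = g₂.comp (algebraMap R R')) : g₁ = g₂ := by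
  letI : Algebra R T := (g₁.comp (algebraMap R R')).toAlgebra
  let G₁ : R' →ₐ[R] T := { g₁ with commutes' := fun r ↦ rfl }
  let G₂ : R' →ₐ[R] T := { g₂ with commutes' := fun r ↦ (RingHom.congr_fun h r).symm }
  have hloc : ∀ (g : R' →+* T) [IsLocalHom g], ∀ y ∈ maximalIdeal R', g y ∈ maximalIdeal T := by
    intro g _ y hy
    rw [IsLocalRing.mem_maximalIdeal, mem_nonunits_iff] at hy ⊢
    exact fun hu ↦ hy (hu.of_map g y)
  have : G₁ = G₂ := GrothLib.Hensel.algHom_eq_of_sub_mem (I := maximalIdeal T)
    (IsLocalRing.maximalIdeal_le_jacobson ⊥) fun x ↦ by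
    obtain ⟨r, hr⟩ := hres x
    show g₁ x - g₂ x ∈ maximalIdeal T
    have hr' : g₁ (algebraMap R R' r) = g₂ (algebraMap R R' r) := RingHom.congr_fun h r
    have h1 := sub_mem (hloc g₁ _ hr) (hloc g₂ _ hr)
    rw [map_sub, map_sub, hr'] at h1
    simpa using h1
  exact congrArg AlgHom.toRingHom this

/-- A henselization of the base is a henselization of the neighbourhood. -/
theorem henselization_up [Algebra.EssFiniteType R R'] [Algebra.FormallyUnramified R R'] (hres : ResidueSurj R R')
    (Sh : Type u) [CommRing Sh] [IsLocalRing Sh] [Algebra R Sh] [IsLocalHom (algebraMap R Sh)]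
    [hS : Hensel.IsHenselization R Sh] [Algebra R' Sh] [IsLocalHom (algebraMap R' Sh)] [IsScalarTower R R' Sh] :
    Hensel.IsHenselization R' Sh := by
  refine ⟨hS.henselian, fun T _ _ f hf ↦ ?_⟩
  haveI := hf
  obtain ⟨g, hg, huniq⟩ := hS.universal T (f.comp (algebraMap R R')) inferInstance
  haveI := hS.henselian
  haveI : IsLocalHom g := by
    constructor
    intro y hy
    by_contra hyu
    obtain ⟨r, hr⟩ : ∃ r, y - algebraMap R Sh r ∈ maximalIdeal Sh := GrothLib.Hensel.IsHenselization.exists_sub_mem y
    have hym : y ∈ maximalIdeal Sh := hyu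
    have hrm : algebraMap R Sh r ∈ maximalIdeal Sh := by simpa using sub_mem hym hr
    have hrR : r ∈ maximalIdeal R := fun hu ↦ hrm (hu.map _)
    obtain ⟨c, hc⟩ : ∃ c, y = c := ⟨y, rfl⟩
    have hy' : y ∈ (maximalIdeal R).map (algebraMap R Sh) := by
      rw [GrothLib.Hensel.IsHenselization.map_maximalIdeal]; exact hym
    have : g y ∈ maximalIdeal T := by
      have h2 : ((maximalIdeal R).map (algebraMap R Sh)).map g ≤ maximalIdeal T := by
        rw [Ideal.map_map, hg, Ideal.map_le_iff_le_comap]
        intro z hz
        rw [Ideal.mem_comap, IsLocalRing.mem_maximalIdeal, mem_nonunits_iff]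
        exact fun hu ↦ hz (hu.of_map _ z)
      exact h2 (Ideal.mem_map_of_mem g hy')
    exact this hy
  refine ⟨g, ?_, fun g' hg' ↦ huniq g' ?_⟩
  · refine ext_local hres (g.comp (algebraMap R' Sh)) f ?_
    rw [RingHom.comp_assoc, ← IsScalarTower.algebraMap_eq]
    exact hg
  · show g'.comp (algebraMap R Sh) = _
    rw [IsScalarTower.algebraMap_eq R R' Sh, ← RingHom.comp_assoc, hg']

/-- Lifts along a flat unramified local neighbourhood with trivial residue extension exist. -/
theorem exists_lift [IsNoetherianRing R] [Algebra.EssFiniteType R R'] [Module.Flat R R']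
    [Algebra.FormallyUnramified R R'] (hres : ResidueSurj R R')
    (T : Type u) [CommRing T] [HenselianLocalRing T] (f : R →+* T) [IsLocalHom f] :
    ∃ g : R' →+* T, IsLocalHom g ∧ g.comp (algebraMap R R') = f := by
  let B := Algebra.EssFiniteType.subalgebra R R'
  let q := (maximalIdeal R').comap (algebraMap B R')
  haveI : q.IsPrime := Ideal.IsPrime.comap _
  haveI : Algebra.FinitePresentation R B := Algebra.FinitePresentation.of_finiteType.1 inferInstance
  have hsub : Algebra.EssFiniteType.submonoid R R' = q.primeCompl := by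
    ext x
    show IsUnit (algebraMap B R' x) ↔ algebraMap B R' x ∉ maximalIdeal R'
    exact notMem_maximalIdeal.symm
  haveI : IsLocalization.AtPrime R' q := by
    show IsLocalization q.primeCompl R'
    rw [← hsub]; infer_instance
  let p := maximalIdeal R
  haveI : q.LiesOver p := ⟨by
    rw [Ideal.under_def]
    show maximalIdeal R = ((maximalIdeal R').comap (algebraMap B R')).comap (algebraMap R B)
    rw [Ideal.comap_comap, ← IsScalarTower.algebraMap_eq]
    exact Eq.symm ((((IsLocalRing.local_hom_TFAE (algebraMap R R')).out 0 4 rfl rfl) : IsLocalHom (algebraMap R R') ↔ _).1 ‹_›)⟩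
  letI := Localization.AtPrime.algebraOfLiesOver p q
  let e : R' ≃ₐ[B] Localization.AtPrime q := IsLocalization.algEquiv q.primeCompl _ _
  haveI : Module.Flat R (Localization.AtPrime q) := Module.Flat.of_linearEquiv (e.restrictScalars R).symm.toLinearEquiv
  haveI : Module.Flat (Localization.AtPrime p) (Localization.AtPrime q) :=
    (Module.flat_iff_of_isLocalization (Localization.AtPrime p) p.primeCompl _).2 inferInstance
  haveI : Algebra.IsUnramifiedAt R q := Algebra.FormallyUnramified.of_equiv (e.restrictScalars R)
  haveI := GrothLib.LocProp.isEtaleAt_of_isUnramifiedAt_of_flat p q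
  obtain ⟨b, hb, _⟩ := Algebra.exists_etale_of_isEtaleAt (R := R) q
  letI : Algebra R T := f.toAlgebra
  have hbij : Function.Bijective (ResidueField.map (algebraMap R R')) := by
    refine ⟨RingHom.injective _, fun y ↦ ?_⟩
    obtain ⟨x, rfl⟩ := residue_surjective y
    obtain ⟨r, hr⟩ := hres x
    refine ⟨residue R r, ?_⟩
    rw [ResidueField.map_residue]
    exact (Ideal.Quotient.eq.2 hr).symm
  let ρ : R' →+* ResidueField T :=
    ((ResidueField.map f).comp (RingEquiv.ofBijective _ hbij).symm.toRingHom).comp (residue R')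
  have hρ : ∀ r, ρ (algebraMap R R' r) = residue T (f r) := by
    intro r
    show ResidueField.map f ((RingEquiv.ofBijective _ hbij).symm (residue R' (algebraMap R R' r))) = _
    rw [show (RingEquiv.ofBijective _ hbij).symm (residue R' (algebraMap R R' r)) = residue R r from
      (RingEquiv.symm_apply_eq _).2 (ResidueField.map_residue _ r).symm, ResidueField.map_residue]
  let ρB : B →+* ResidueField T := ρ.comp (algebraMap B R')
  have hunit : ∀ x : B, x ∉ q → IsUnit (ρB x) := fun x hx ↦ (notMem_maximalIdeal.1 hx).map ρ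
  let σ : Localization.Away b →ₐ[R] T ⧸ maximalIdeal T :=
    { IsLocalization.Away.lift b (hunit b hb) with
      commutes' := fun r ↦ by
        show IsLocalization.Away.lift b (hunit b hb) (algebraMap R (Localization.Away b) r) = _
        rw [IsScalarTower.algebraMap_apply R B (Localization.Away b), IsLocalization.Away.lift_eq]
        show ρ (algebraMap B R' (algebraMap R B r)) = residue T (f r)
        rw [← IsScalarTower.algebraMap_apply, hρ] }
  obtain ⟨τ, hτ⟩ := GrothLib.Hensel.exists_algHom_lift σ
  let τB : B →+* T := τ.toRingHom.comp (algebraMap B (Localization.Away b))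
  have hτB : ∀ x, residue T (τB x) = ρB x := by
    intro x
    refine (AlgHom.congr_fun hτ (algebraMap B (Localization.Away b) x)).trans ?_
    exact IsLocalization.Away.lift_eq b (hunit b hb) x
  have hun : ∀ y : q.primeCompl, IsUnit (τB y) := fun y ↦ notMem_maximalIdeal.1 fun hy ↦ by
    have h1 := hunit y y.2
    rw [← hτB, residue_eq_zero_iff _ |>.2 hy] at h1
    exact not_isUnit_zero h1
  let g : R' →+* T := IsLocalization.lift (M := q.primeCompl) hun
  refine ⟨g, ⟨fun x hx ↦ ?_⟩, RingHom.ext fun r ↦ ?_⟩
  · obtain ⟨⟨a, s⟩, hs⟩ := IsLocalization.surj q.primeCompl x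
    have ha : IsUnit (τB a) := by
      have h1 := congrArg g hs
      rw [map_mul, IsLocalization.lift_eq, IsLocalization.lift_eq] at h1
      rw [← h1]
      exact hx.mul (hun s)
    have hau : IsUnit (algebraMap B R' a) := notMem_maximalIdeal.1 fun hm ↦ by
      have h2 : ρB a = 0 := by
        show ResidueField.map f ((RingEquiv.ofBijective _ hbij).symm (residue R' (algebraMap B R' a))) = 0
        rw [(residue_eq_zero_iff _).2 hm, map_zero, map_zero]
      rw [← hτB, residue_eq_zero_iff] at h2
      exact h2 ha
    rw [← hs] at hau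
    exact isUnit_of_mul_isUnit_left hau
  · show g (algebraMap R R' r) = f r
    rw [IsScalarTower.algebraMap_apply R B R', IsLocalization.lift_eq]
    show τ (algebraMap B (Localization.Away b) (algebraMap R B r)) = f r
    rw [← IsScalarTower.algebraMap_apply, τ.commutes]
    rfl

/-- A henselization of a flat unramified neighbourhood is a henselization of the base. -/
theorem henselization_down [IsNoetherianRing R] [Algebra.EssFiniteType R R'] [Module.Flat R R']
    [Algebra.FormallyUnramified R R'] (hres : ResidueSurj R R')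
    (Sh : Type u) [CommRing Sh] [IsLocalRing Sh] [Algebra R' Sh] [IsLocalHom (algebraMap R' Sh)]
    [hS : Hensel.IsHenselization R' Sh] [Algebra R Sh] [IsLocalHom (algebraMap R Sh)] [IsScalarTower R R' Sh] :
    Hensel.IsHenselization R Sh := by
  refine ⟨hS.henselian, fun T _ _ f hf ↦ ?_⟩
  haveI := hf
  obtain ⟨f', hf', hcomp⟩ := exists_lift (R' := R') hres T f
  obtain ⟨g, hg, huniq⟩ := hS.universal T f' hf'
  refine ⟨g, ?_, fun g' hg' ↦ huniq g' ?_⟩
  · show g.comp (algebraMap R Sh) = f
    rw [IsScalarTower.algebraMap_eq R R' Sh, ← RingHom.comp_assoc, hg, hcomp]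
  · haveI := hS.henselian
    have hc : (g'.comp (algebraMap R' Sh)).comp (algebraMap R R') = f'.comp (algebraMap R R') := by
      rw [RingHom.comp_assoc, ← IsScalarTower.algebraMap_eq, hcomp]; exact hg'
    haveI : IsLocalHom (g'.comp (algebraMap R' Sh)) := by
      refine ((IsLocalRing.local_hom_TFAE _).out 0 2).2 ?_
      rw [← Algebra.FormallyUnramified.map_maximalIdeal (R := R) (S := R'), Ideal.map_map, hc,
        hcomp]
      exact ((IsLocalRing.local_hom_TFAE f).out 0 2).1 hf
    exact ext_local hres (g'.comp (algebraMap R' Sh)) f' hc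

end GrothLib.OrdHens1
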