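import Mathlib
import Groth.Agent.Lib.OrdHens1.EtNbhd
import Groth.Agent.Lib.OrdHens1.Complete
import Groth.Agent.Lib.Hensel.CompletionHens
import Groth.Agent.Lib.Hensel.Noetherian

/-!
# The henselization of an ordinary quadratic singularity is that of the cone
-/

set_option autoImplicit false
set_option backward.isDefEq.respectTransparency false
set_option linter.style.haveILetI false

universe u

open IsLocalRing

namespace GrothLib.OrdHens1

theorem qf_map {A B : Type u} [CommRing A] [CommRing B] (φ : A →+* B) {ι : Type*} [Fintype ι]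
    (U : Matrix ι ι A) (v : ι → A) : φ (qf U v) = qf (U.map φ) (φ ∘ v) := by
  simp [qf_eq_sum, map_sum]

/-- The local ring of a pointed étale algebra mapping to the henselization. -/
theorem exists_local_nbhd {O Oh B : Type u} [CommRing O] [IsLocalRing O] [CommRing Oh] [IsLocalRing Oh]
    [Algebra O Oh] [CommRing B] [Algebra O B] [Algebra.Etale O B] (pt : B →ₐ[O] ResidueField O) (φ : B →ₐ[O] Oh)
    (hφ : ∀ x, pt x = 0 ↔ φ x ∈ maximalIdeal Oh) :
    ∃ (R' : Type u) (_ : CommRing R') (_ : IsLocalRing R') (_ : Algebra O R') (_ : Algebra R' Oh)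
      (l : B →ₐ[O] R'), IsLocalHom (algebraMap O R') ∧ IsLocalHom (algebraMap R' Oh) ∧ IsScalarTower O R' Oh ∧
      Algebra.EssFiniteType O R' ∧ Algebra.FormallyUnramified O R' ∧ Module.Flat O R' ∧ ResidueSurj O R' ∧
      ∀ x, algebraMap R' Oh (l x) = φ x := by
  let q : Ideal B := RingHom.ker pt.toRingHom
  haveI hq : q.IsPrime := RingHom.ker_isPrime _
  let R' := Localization.AtPrime q
  let j : R' →+* Oh := IsLocalization.lift (M := q.primeCompl) (g := φ.toRingHom)
    fun y ↦ notMem_maximalIdeal.1 fun h ↦ y.2 ((hφ y).2 h)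
  letI : Algebra R' Oh := j.toAlgebra
  haveI : IsLocalHom (algebraMap O R') := ⟨fun r hr ↦ by
    rw [IsScalarTower.algebraMap_apply O B R', IsLocalization.AtPrime.isUnit_to_map_iff R' q] at hr
    have h : pt (algebraMap O B r) ≠ 0 := hr
    rw [AlgHom.commutes] at h
    exact notMem_maximalIdeal.1 fun hm ↦ h ((residue_eq_zero_iff _).2 hm)⟩
  haveI : IsScalarTower O R' Oh := .of_algebraMap_eq fun r ↦ by
    show _ = j _
    rw [IsScalarTower.algebraMap_apply O B R', IsLocalization.lift_eq]
    exact (φ.commutes r).symm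
  haveI : IsLocalHom (algebraMap R' Oh) := ⟨fun x hx ↦ by
    obtain ⟨⟨a, s⟩, hs⟩ := IsLocalization.surj q.primeCompl x
    have h1 : IsUnit (j (algebraMap B R' a)) := by
      rw [← hs, map_mul]
      exact IsUnit.mul hx ((IsLocalization.map_units R' s).map j)
    rw [IsLocalization.lift_eq] at h1
    have h2 : IsUnit (algebraMap B R' a) := (IsLocalization.AtPrime.isUnit_to_map_iff R' q a).2
      fun ha ↦ (IsLocalRing.mem_maximalIdeal _).1 ((hφ a).1 ha) h1
    rw [← hs] at h2
    exact isUnit_of_mul_isUnit_left h2⟩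
  haveI : Algebra.EssFiniteType B R' := Algebra.EssFiniteType.of_isLocalization R' q.primeCompl
  haveI : Algebra.EssFiniteType O R' := Algebra.EssFiniteType.comp O B R'
  haveI : Algebra.FormallyUnramified B R' := Algebra.FormallyUnramified.of_isLocalization q.primeCompl
  haveI : Algebra.FormallyUnramified O R' := Algebra.FormallyUnramified.comp O B R'
  haveI : Module.Flat B R' := IsLocalization.flat R' q.primeCompl
  haveI : Module.Flat O R' := Module.Flat.trans O B R'
  refine ⟨R', inferInstance, inferInstance, inferInstance, inferInstance, IsScalarTower.toAlgHom O B R',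
    inferInstance, inferInstance, inferInstance, inferInstance, inferInstance, inferInstance, fun x ↦ ?_, fun x ↦ ?_⟩
  · obtain ⟨⟨a, s⟩, hs⟩ := IsLocalization.surj q.primeCompl x
    have hs0 : pt (s : B) ≠ 0 := s.2
    obtain ⟨r, hr⟩ := residue_surjective (pt a / pt (s : B))
    refine ⟨r, ?_⟩
    have h1 : a - algebraMap O B r * s ∈ q := by
      show pt (a - algebraMap O B r * s) = 0
      rw [map_sub, map_mul, AlgHom.commutes]
      show pt a - residue O r * pt (s : B) = 0
      rw [hr, div_mul_cancel₀ _ hs0, sub_self]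
    have h2 := (IsLocalization.AtPrime.to_map_mem_maximal_iff R' q _).2 h1
    rw [map_sub, map_mul, ← hs, ← IsScalarTower.algebraMap_apply, ← sub_mul] at h2
    exact (Ideal.mul_unit_mem_iff_mem _ (IsLocalization.map_units R' s)).1 h2
  · exact IsLocalization.lift_eq _ _

/-- A zero in the henselization lives in a local étale neighbourhood. -/
theorem exists_nbhd {O Oh : Type u} [CommRing O] [IsLocalRing O] [CommRing Oh] [IsLocalRing Oh] [Algebra O Oh]
    [IsLocalHom (algebraMap O Oh)] [Hensel.IsHenselization O Oh] {m : ℕ} (U : Matrix (Fin m) (Fin m) O)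
    (z : Fin m → Oh) (hz : qf (U.map (algebraMap O Oh)) z = 0) :
    ∃ (R' : Type u) (_ : CommRing R') (_ : IsLocalRing R') (_ : Algebra O R') (_ : Algebra R' Oh)
      (a : Fin m → R'), IsLocalHom (algebraMap O R') ∧ IsLocalHom (algebraMap R' Oh) ∧ IsScalarTower O R' Oh ∧
      Algebra.EssFiniteType O R' ∧ Algebra.FormallyUnramified O R' ∧ Module.Flat O R' ∧ ResidueSurj O R' ∧
      qf (U.map (algebraMap O R')) a = 0 ∧ ∀ i, algebraMap R' Oh (a i) = z i := by
  obtain ⟨e⟩ := GrothLib.Hensel.IsHenselization.nonempty_hens_algEquiv (R := O) (S := Oh)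
  obtain ⟨N, b, hb⟩ := GrothLib.Hensel.Hull.exists_ι_family (fun i ↦ e.symm (z i))
  have hq : ∀ {X Y : Type u} [CommRing X] [CommRing Y] [Algebra O X] [Algebra O Y] (g : X →ₐ[O] Y) (v : Fin m → X),
      g (qf (U.map (algebraMap O X)) v) = qf (U.map (algebraMap O Y)) (g ∘ v) := by
    intro X Y _ _ _ _ g v
    refine (qf_map g.toRingHom _ v).trans ?_
    congr 1
    ext i j
    exact g.commutes (U i j)
  have h0 : GrothLib.Hensel.Hull.ι N (qf (U.map (algebraMap O N.Ring)) b) = 0 := by
    rw [hq, show (GrothLib.Hensel.Hull.ι N) ∘ b = e.symm.toAlgHom ∘ z from funext hb, ← hq, hz, map_zero]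
  obtain ⟨M, f, hf⟩ := GrothLib.Hensel.Hull.exists_map_eq_zero h0
  have hφ : ∀ x, M.pt x = 0 ↔ (e.toAlgHom.comp (GrothLib.Hensel.Hull.ι M)) x ∈ maximalIdeal Oh := fun x ↦ by
    have h1 : IsUnit (e (GrothLib.Hensel.Hull.ι M x)) ↔ IsUnit (GrothLib.Hensel.Hull.ι M x) :=
      ⟨fun h ↦ by simpa using h.map e.symm, fun h ↦ h.map e⟩
    rw [IsLocalRing.mem_maximalIdeal, mem_nonunits_iff, AlgHom.comp_apply, AlgEquiv.coe_toAlgHom, h1,
      GrothLib.Hensel.FieldHull.isUnit_iff, not_not, GrothLib.Hensel.Hull.proj_ι]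
  obtain ⟨R', _, _, _, _, l, h1, h2, h3, h4, h5, h6, h7, hl⟩ := exists_local_nbhd M.pt _ hφ
  refine ⟨R', inferInstance, inferInstance, inferInstance, inferInstance, fun i ↦ l (f.map (b i)),
    h1, h2, h3, h4, h5, h6, h7, ?_, fun i ↦ ?_⟩
  · have h8 := congrArg l hf
    rw [hq f.map, hq l, map_zero] at h8
    exact h8
  · rw [hl]
    show e (GrothLib.Hensel.Hull.ι M (f.map (b i))) = z i
    rw [GrothLib.Hensel.Hull.ι_map, hb i, AlgEquiv.apply_symm_apply]

/-- Approximate coordinates of the singularity. -/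
theorem exists_coordinates {k : Type u} [Field k] {n : ℕ} {O : Type u} [CommRing O] [IsLocalRing O]
    [IsNoetherianRing O] [Algebra k O] {f : MvPowerSeries (Fin (n + 1)) k} (hf : VanCyc.OrdQuadSeries f)
    (π : O →ₐ[k] MvPowerSeries (Fin (n + 1)) k ⧸ Ideal.span {f}) (hπ : π.toRingHom.FaithfullyFlat)
    (hm : (maximalIdeal O).map π.toRingHom =
      (maximalIdeal (MvPowerSeries (Fin (n + 1)) k)).map (Ideal.Quotient.mk (Ideal.span {f}))) :
    ∃ y : Fin (n + 1) → O, Ideal.span (Set.range y) = maximalIdeal O ∧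
      qf ((upper (VanCyc.quadPart f)).map (algebraMap k O)) y ∈
        maximalIdeal O * (maximalIdeal O * maximalIdeal O) ∧
      ∀ i, π (y i) - Ideal.Quotient.mk _ (MvPowerSeries.X i) ∈ ((maximalIdeal O) ^ 2).map π.toRingHom := by
  let P := MvPowerSeries (Fin (n + 1)) k
  let mk := Ideal.Quotient.mk (Ideal.span ({f} : Set P))
  letI : Algebra O (P ⧸ Ideal.span {f}) := π.toRingHom.toAlgebra
  haveI : Module.FaithfullyFlat O (P ⧸ Ideal.span {f}) := hπ
  have hcontr : ∀ I : Ideal O, ∀ x, π x ∈ I.map π.toRingHom → x ∈ I := fun I x hx ↦ by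
    rw [← Ideal.comap_map_eq_self_of_faithfullyFlat (B := P ⧸ Ideal.span {f}) I]
    exact hx
  have hXm : ∀ i, mk (MvPowerSeries.X i) ∈ (maximalIdeal O).map π.toRingHom := fun i ↦ by
    rw [hm]
    refine Ideal.mem_map_of_mem _ ?_
    rw [GrothLib.QuadSeries.maximalIdeal_eq]
    exact Ideal.subset_span ⟨i, rfl⟩
  have happrox : ∀ x ∈ (maximalIdeal O).map π.toRingHom, ∃ d ∈ maximalIdeal O,
      x - π d ∈ ((maximalIdeal O) ^ 2).map π.toRingHom := by
    intro x hx
    induction hx using Submodule.span_induction with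
    | mem x hx =>
      obtain ⟨d, hd, rfl⟩ := hx
      exact ⟨d, hd, by simp⟩
    | zero => exact ⟨0, zero_mem _, by simp⟩
    | add x y _ _ h1 h2 =>
      obtain ⟨d, hd, hd'⟩ := h1
      obtain ⟨e, he, he'⟩ := h2
      exact ⟨d + e, add_mem hd he, by rw [map_add, add_sub_add_comm]; exact add_mem hd' he'⟩
    | smul c x hx h1 =>
      obtain ⟨d, hd, hd'⟩ := h1
      obtain ⟨g, rfl⟩ := Ideal.Quotient.mk_surjective c
      let c0 := MvPowerSeries.constantCoeff g
      have hg : mk (g - MvPowerSeries.C c0) ∈ (maximalIdeal O).map π.toRingHom := by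
        rw [hm]
        exact Ideal.mem_map_of_mem _ (GrothLib.QuadSeries.mem_max.2 (by simp [c0]))
      have hc0 : π (algebraMap k O c0) = mk (MvPowerSeries.C c0) := π.commutes c0
      refine ⟨algebraMap k O c0 * d, Ideal.mul_mem_left _ _ hd, ?_⟩
      have e : mk g • x - π (algebraMap k O c0 * d) =
          mk (g - MvPowerSeries.C c0) * x + mk (MvPowerSeries.C c0) * (x - π d) := by
        rw [smul_eq_mul, map_mul, hc0, map_sub]
        ring
      rw [e]
      refine add_mem ?_ (Ideal.mul_mem_left _ _ hd')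
      rw [Ideal.map_pow, sq]
      exact Ideal.mul_mem_mul hg hx
  choose y hy hyX using fun i ↦ happrox _ (hXm i)
  have hyX' : ∀ i, π (y i) - mk (MvPowerSeries.X i) ∈ ((maximalIdeal O) ^ 2).map π.toRingHom := fun i ↦ by
    rw [← neg_sub]; exact neg_mem (hyX i)
  have hgen : Ideal.span (Set.range y) = maximalIdeal O := by
    refine le_antisymm (Ideal.span_le.2 (by rintro _ ⟨i, rfl⟩; exact hy i)) fun x hx ↦ hcontr _ x ?_
    have hJ : (maximalIdeal O).map π.toRingHom ≤ (Ideal.span (Set.range y)).map π.toRingHom := by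
      refine Submodule.le_of_le_smul_of_le_jacobson_bot (I := (maximalIdeal O).map π.toRingHom)
        (IsNoetherian.noetherian _) ?_ ?_
      · rw [hm]
        haveI : Nontrivial (P ⧸ Ideal.span {f}) := Ideal.Quotient.nontrivial_iff.2 fun htop ↦ by
          rw [Ideal.span_singleton_eq_top, MvPowerSeries.isUnit_iff_constantCoeff, hf.1.1] at htop
          exact not_isUnit_zero htop
        haveI : IsLocalRing (P ⧸ Ideal.span {f}) :=
          IsLocalRing.of_surjective' _ Ideal.Quotient.mk_surjective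
        rw [GrothLib.RegLoc.map_maximalIdeal_quotient]
        exact maximalIdeal_le_jacobson _
      · rw [smul_eq_mul, ← sq, ← Ideal.map_pow]
        conv_lhs => rw [hm, GrothLib.QuadSeries.maximalIdeal_eq, Ideal.map_span]
        rw [Ideal.span_le]
        rintro _ ⟨_, ⟨i, rfl⟩, rfl⟩
        have h1 := sub_mem (Submodule.mem_sup_left (Ideal.mem_map_of_mem π.toRingHom (Ideal.subset_span ⟨i, rfl⟩)) :
          π (y i) ∈ (Ideal.span (Set.range y)).map π.toRingHom ⊔ ((maximalIdeal O) ^ 2).map π.toRingHom)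
          (Submodule.mem_sup_right (hyX' i))
        simpa [mk] using h1
    exact hJ (Ideal.mem_map_of_mem _ hx)
  refine ⟨y, hgen, ?_, hyX'⟩
  rw [← pow_two, ← pow_succ']
  refine hcontr _ _ ?_
  have hh : ∀ i, ∃ p : P, p - MvPowerSeries.X i ∈ maximalIdeal P ^ 2 ∧ mk p = π (y i) := fun i ↦ by
    have h1 := hyX' i
    rw [Ideal.map_pow, hm, ← Ideal.map_pow, Ideal.mem_map_iff_of_surjective mk Ideal.Quotient.mk_surjective] at h1
    obtain ⟨w, hw, hw'⟩ := h1
    exact ⟨MvPowerSeries.X i + w, by simpa using hw, by rw [map_add, hw']; ring⟩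
  choose p hp hpe using hh
  have h1 : π (qf ((upper (VanCyc.quadPart f)).map (algebraMap k O)) y) =
      mk (MvPolynomial.aeval p (VanCyc.quadPoly (VanCyc.quadPart f))) := by
    rw [aeval_quadPoly_eq_qf, qf_map mk]
    refine (qf_map π.toRingHom _ y).trans ?_
    congr 1
    · ext i j
      simp only [Matrix.map_apply]
      exact (π.commutes _).trans (by rfl)
    · funext i
      exact (hpe i).symm
  rw [h1, Ideal.map_pow, hm, ← Ideal.map_pow]
  have h2 := add_mem (quad_congr (VanCyc.quadPart f) p hp) (neg_mem (series_sub_quad hf.1))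
  have h3 : mk (MvPolynomial.aeval p (VanCyc.quadPoly (VanCyc.quadPart f))) =
      mk ((MvPolynomial.aeval p (VanCyc.quadPoly (VanCyc.quadPart f)) : P) -
        (VanCyc.quadPoly (VanCyc.quadPart f) : MvPolynomial (Fin (n + 1)) k) +
        -(f - (VanCyc.quadPoly (VanCyc.quadPart f) : MvPolynomial (Fin (n + 1)) k))) := by
    rw [Ideal.Quotient.eq]
    refine Ideal.mem_span_singleton'.2 ⟨1, ?_⟩
    ring
  rw [show mk (MvPolynomial.aeval p (VanCyc.quadPoly (VanCyc.quadPart f))) = _ from h3]
  exact Ideal.mem_map_of_mem mk h2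

/-- The henselization of an ordinary quadratic singularity is the henselization of its cone. -/
theorem henselization_iso {k : Type u} [Field k] [IsAlgClosed k]
    {O : Type u} [CommRing O] [IsLocalRing O] [Algebra k O] [Algebra.EssFiniteType k O]
    (hk : ∀ y : O, ∃ c : k, y - algebraMap k O c ∈ maximalIdeal O)
    {n : ℕ} {f : MvPowerSeries (Fin (n + 1)) k} (hf : VanCyc.OrdQuadSeries f)
    (e : AdicCompletion (maximalIdeal O) O ≃ₐ[k] MvPowerSeries (Fin (n + 1)) k ⧸ Ideal.span {f})
    (Oh : Type u) [CommRing Oh] [IsLocalRing Oh] [Algebra O Oh] [IsLocalHom (algebraMap O Oh)]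
    [hS : Hensel.IsHenselization O Oh] [Algebra k Oh] [IsScalarTower k O Oh]
    [(VanCyc.originQuot k (VanCyc.quadPart f) 0).IsPrime] (C : Type u) [CommRing C] [IsLocalRing C]
    [Algebra (Localization.AtPrime (VanCyc.originQuot k (VanCyc.quadPart f) 0)) C]
    [IsLocalHom (algebraMap (Localization.AtPrime (VanCyc.originQuot k (VanCyc.quadPart f) 0)) C)]
    [Hensel.IsHenselization (Localization.AtPrime (VanCyc.originQuot k (VanCyc.quadPart f) 0)) C]
    [Algebra k C] [IsScalarTower k (Localization.AtPrime (VanCyc.originQuot k (VanCyc.quadPart f) 0)) C] :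
    Nonempty (Oh ≃ₐ[k] C) := by
  haveI : IsNoetherianRing O := Algebra.EssFiniteType.isNoetherianRing k O
  haveI := hS.henselian
  let P := MvPowerSeries (Fin (n + 1)) k
  let mk := Ideal.Quotient.mk (Ideal.span ({f} : Set P))
  let π : O →ₐ[k] P ⧸ Ideal.span {f} := e.toAlgHom.comp (IsScalarTower.toAlgHom k O (AdicCompletion (maximalIdeal O) O))
  haveI : Nontrivial (P ⧸ Ideal.span {f}) := e.symm.toRingEquiv.toRingHom.domain_nontrivial
  haveI : IsLocalRing (P ⧸ Ideal.span {f}) := IsLocalRing.of_surjective' _ Ideal.Quotient.mk_surjective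
  have hemax : (maximalIdeal (AdicCompletion (maximalIdeal O) O)).map e.toRingEquiv.toRingHom =
      maximalIdeal (P ⧸ Ideal.span {f}) :=
    eq_maximalIdeal (Ideal.map_isMaximal_of_equiv e.toRingEquiv)
  have hm : (maximalIdeal O).map π.toRingHom = (maximalIdeal P).map mk := by
    rw [GrothLib.RegLoc.map_maximalIdeal_quotient, ← hemax, AdicCompletion.maximalIdeal_eq_map, Ideal.map_map]
    rfl
  have hOhat : (algebraMap O (AdicCompletion (maximalIdeal O) O)).FaithfullyFlat := by
    rw [RingHom.faithfullyFlat_algebraMap_iff]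
    exact Module.FaithfullyFlat.of_flat_of_isLocalHom
  have heff : e.toRingEquiv.toRingHom.FaithfullyFlat := RingHom.FaithfullyFlat.of_bijective e.bijective
  have hπ : π.toRingHom.FaithfullyFlat := RingHom.FaithfullyFlat.stableUnderComposition _ _ hOhat heff
  obtain ⟨y, hy, hyQ, hyX⟩ := exists_coordinates hf π hπ hm
  let ι := algebraMap O Oh
  have hmaxOh : (maximalIdeal O).map ι = maximalIdeal Oh := GrothLib.Hensel.IsHenselization.map_maximalIdeal
  have hyh : Ideal.span (Set.range (ι ∘ y)) = maximalIdeal Oh := by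
    rw [Set.range_comp, ← Ideal.map_span, hy, hmaxOh]
  have hUh : ((upper (VanCyc.quadPart f)).map (algebraMap k O)).map ι =
      (upper (VanCyc.quadPart f)).map (algebraMap k Oh) := by
    ext i j
    simp [ι, ← IsScalarTower.algebraMap_apply]
  obtain ⟨z, hz, hzgen, hzclose⟩ := exists_zero_generators (VanCyc.quadPart f) hf.2 (ι ∘ y) hyh (by
    rw [← hUh, ← qf_map ι, ← hmaxOh, ← Ideal.map_mul, ← Ideal.map_mul]
    exact Ideal.mem_map_of_mem _ hyQ)
  rw [← hUh] at hz
  obtain ⟨R', _, _, _, _, a, hloc1, hloc2, htow, hEFT, hunr, hflat, hres, haQ, haz⟩ := exists_nbhd _ z hz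
  haveI := hloc1; haveI := hloc2; haveI := htow; haveI := hEFT; haveI := hunr; haveI := hflat
  haveI : Hensel.IsHenselization R' Oh := henselization_up hres Oh
  letI : Algebra k R' := ((algebraMap O R').comp (algebraMap k O)).toAlgebra
  haveI : IsScalarTower k O R' := .of_algebraMap_eq fun _ ↦ rfl
  haveI : IsScalarTower k R' Oh := .of_algebraMap_eq fun c ↦ by
    rw [IsScalarTower.algebraMap_apply k O R', ← IsScalarTower.algebraMap_apply O R' Oh,
      ← IsScalarTower.algebraMap_apply k O Oh]
  have ham : ∀ i, a i ∈ maximalIdeal R' := fun i hu ↦ by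
    have h1 : IsUnit (z i) := haz i ▸ hu.map (algebraMap R' Oh)
    have h2 : z i ∈ maximalIdeal Oh := hzgen ▸ Ideal.subset_span ⟨i, rfl⟩
    exact h2 h1
  let Q := VanCyc.quadPoly (VanCyc.quadPart f) - MvPolynomial.C 0
  have hQa : MvPolynomial.aeval a Q = 0 := by
    simp only [Q, map_zero, sub_zero, aeval_quadPoly_eq_qf]
    refine Eq.trans ?_ haQ
    congr 1
  let χ : VanCyc.quadRing k (VanCyc.quadPart f) 0 →ₐ[k] R' :=
    Ideal.Quotient.liftₐ _ (MvPolynomial.aeval a) (fun x hx ↦ by
      obtain ⟨c, rfl⟩ := Ideal.mem_span_singleton'.1 hx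
      rw [map_mul, hQa, mul_zero])
  have hχmem : ∀ q : MvPolynomial (Fin (n + 1)) k,
      MvPolynomial.aeval a q - algebraMap k R' (MvPolynomial.constantCoeff q) ∈ maximalIdeal R' := fun q ↦ by
    induction q using MvPolynomial.induction_on with
    | C c => simp
    | add p q hp hq => rw [map_add, map_add, map_add, add_sub_add_comm]; exact add_mem hp hq
    | mul_X p i hp =>
      rw [map_mul, map_mul, MvPolynomial.aeval_X, MvPolynomial.constantCoeff_X, mul_zero, map_zero, sub_zero]
      exact Ideal.mul_mem_left _ _ (ham i)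
  have hχ : ∀ x, x ∈ VanCyc.originQuot k (VanCyc.quadPart f) 0 ↔ χ x ∈ maximalIdeal R' := fun x ↦ by
    obtain ⟨q, rfl⟩ := Ideal.Quotient.mk_surjective x
    rw [mem_originQuot]
    show _ ↔ MvPolynomial.aeval a q ∈ _
    refine ⟨fun h ↦ by simpa [h] using hχmem q, fun h ↦ ?_⟩
    by_contra hne
    have h1 := sub_mem h (hχmem q)
    rw [sub_sub_cancel] at h1
    exact h1 ((isUnit_iff_ne_zero.2 hne).map _)
  let C0 := Localization.AtPrime (VanCyc.originQuot k (VanCyc.quadPart f) 0)
  let ψ : Localization.AtPrime (VanCyc.originQuot k (VanCyc.quadPart f) 0) →ₐ[k] R' :=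
    IsLocalization.liftAlgHom (M := (VanCyc.originQuot k (VanCyc.quadPart f) 0).primeCompl) (f := χ)
      fun s ↦ notMem_maximalIdeal.1 fun h ↦ s.2 ((hχ s).2 h)
  letI : Algebra (Localization.AtPrime (VanCyc.originQuot k (VanCyc.quadPart f) 0)) R' := ψ.toRingHom.toAlgebra
  haveI : IsScalarTower k (Localization.AtPrime (VanCyc.originQuot k (VanCyc.quadPart f) 0)) R' :=
    .of_algebraMap_eq fun c ↦ (ψ.commutes c).symm
  have hψX : ∀ x, ψ (algebraMap _ _ x) = χ x := fun x ↦ IsLocalization.lift_eq _ _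
  haveI : IsLocalHom (algebraMap (Localization.AtPrime (VanCyc.originQuot k (VanCyc.quadPart f) 0)) R') :=
    ⟨fun x hx ↦ by
      obtain ⟨⟨b, s⟩, hs⟩ := IsLocalization.surj (VanCyc.originQuot k (VanCyc.quadPart f) 0).primeCompl x
      have h1 : IsUnit (χ b) := by
        rw [← hψX, ← hs, map_mul]
        exact IsUnit.mul hx ((IsLocalization.map_units _ s).map ψ)
      have h2 : IsUnit (algebraMap _ (Localization.AtPrime (VanCyc.originQuot k (VanCyc.quadPart f) 0)) b) :=
        (IsLocalization.AtPrime.isUnit_to_map_iff _ (VanCyc.originQuot k (VanCyc.quadPart f) 0) b).2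
          fun hb ↦ (IsLocalRing.mem_maximalIdeal _).1 ((hχ b).1 hb) h1
      rw [← hs] at h2
      exact isUnit_of_mul_isUnit_left h2⟩
  have hmC : (maximalIdeal (Localization.AtPrime (VanCyc.originQuot k (VanCyc.quadPart f) 0))).map
      (algebraMap _ R') = maximalIdeal R' := by
    refine le_antisymm (((local_hom_TFAE _).out 0 2 rfl rfl).mp ‹_›) ?_
    have hspan : Ideal.span (Set.range a) ≤ (maximalIdeal (Localization.AtPrime
        (VanCyc.originQuot k (VanCyc.quadPart f) 0))).map (algebraMap _ R') := by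
      rw [Ideal.span_le]
      rintro _ ⟨i, rfl⟩
      have h1 : algebraMap _ (Localization.AtPrime (VanCyc.originQuot k (VanCyc.quadPart f) 0))
          (Ideal.Quotient.mk _ (MvPolynomial.X i)) ∈ maximalIdeal _ :=
        (IsLocalization.AtPrime.to_map_mem_maximal_iff _ (VanCyc.originQuot k (VanCyc.quadPart f) 0) _).2
          ((mem_originQuot _ _).2 (MvPolynomial.constantCoeff_X _ i))
      have h2 := Ideal.mem_map_of_mem (algebraMap _ R') h1
      rwa [show algebraMap (Localization.AtPrime (VanCyc.originQuot k (VanCyc.quadPart f) 0)) R'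
          (algebraMap _ _ (Ideal.Quotient.mk _ (MvPolynomial.X i))) = a i from
        (hψX _).trans (MvPolynomial.aeval_X a i)] at h2
    refine le_trans ?_ hspan
    haveI := GrothLib.Hensel.IsHenselization.faithfullyFlat (R := R') (S := Oh)
    have h3 : (maximalIdeal R').map (algebraMap R' Oh) ≤ (Ideal.span (Set.range a)).map (algebraMap R' Oh) := by
      rw [GrothLib.Hensel.IsHenselization.map_maximalIdeal, ← hzgen, Ideal.map_span, ← Set.range_comp]
      exact le_of_eq (congrArg _ (congrArg _ (funext fun i ↦ (haz i).symm)))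
    have h4 := Ideal.comap_mono (f := algebraMap R' Oh) h3
    rwa [Ideal.comap_map_eq_self_of_faithfullyFlat, Ideal.comap_map_eq_self_of_faithfullyFlat] at h4
  haveI : Algebra.EssFiniteType k R' := Algebra.EssFiniteType.comp k O R'
  haveI : Algebra.EssFiniteType (Localization.AtPrime (VanCyc.originQuot k (VanCyc.quadPart f) 0)) R' :=
    Algebra.EssFiniteType.of_comp k _ R'
  have hresC : ResidueSurj (Localization.AtPrime (VanCyc.originQuot k (VanCyc.quadPart f) 0)) R' := fun x ↦ by
    obtain ⟨r, hr⟩ := hres x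
    obtain ⟨c, hc⟩ := hk r
    refine ⟨algebraMap k _ c, ?_⟩
    have h1 : algebraMap O R' (r - algebraMap k O c) ∈ maximalIdeal R' :=
      map_nonunit (algebraMap O R') _ hc
    have h2 := add_mem hr h1
    rw [map_sub, ← IsScalarTower.algebraMap_apply k O R', sub_add_sub_cancel] at h2
    rw [← IsScalarTower.algebraMap_apply]
    exact h2
  haveI : Algebra.IsSeparable (ResidueField (Localization.AtPrime (VanCyc.originQuot k (VanCyc.quadPart f) 0)))
      (ResidueField R') := by
    have hbij : Function.Bijective (Algebra.ofId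
        (ResidueField (Localization.AtPrime (VanCyc.originQuot k (VanCyc.quadPart f) 0))) (ResidueField R')) := by
      refine ⟨RingHom.injective _, fun w ↦ ?_⟩
      obtain ⟨x, rfl⟩ := residue_surjective w
      obtain ⟨r, hr⟩ := hresC x
      exact ⟨residue _ r, (Ideal.Quotient.eq.2 hr).symm⟩
    exact AlgEquiv.Algebra.isSeparable (AlgEquiv.ofBijective _ hbij)
  haveI : Algebra.FormallyUnramified (Localization.AtPrime (VanCyc.originQuot k (VanCyc.quadPart f) 0)) R' :=
    Algebra.FormallyUnramified.of_map_maximalIdeal hmC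
  obtain ⟨ψc, hψc⟩ := GrothLib.Hensel.exists_completion_hom (A := O) (S := Oh)
  have hψcff : ψc.FaithfullyFlat := GrothLib.Hensel.faithfullyFlat_completion ψc hψc
  let ε0 : Oh →ₐ[k] P ⧸ Ideal.span {f} :=
    { e.toRingEquiv.toRingHom.comp ψc with
      commutes' := fun c ↦ by
        show e (ψc (algebraMap k Oh c)) = _
        rw [IsScalarTower.algebraMap_apply k O Oh, ← RingHom.comp_apply, hψc,
          ← IsScalarTower.algebraMap_apply, e.commutes] }
  have hε0 : ∀ x : O, ε0 (ι x) = π x := fun x ↦ congrArg e (RingHom.congr_fun hψc x)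
  have hsq : (maximalIdeal Oh * maximalIdeal Oh).map ε0.toRingHom =
      ((maximalIdeal O) ^ 2).map π.toRingHom := by
    rw [← hmaxOh, ← Ideal.map_mul, Ideal.map_map, sq]
    congr 1
    exact RingHom.ext hε0
  have hp : ∀ i, ∃ p : P, p - MvPowerSeries.X i ∈ maximalIdeal P ^ 2 ∧ mk p = ε0 (z i) := fun i ↦ by
    have h1 : ε0 (z i) - mk (MvPowerSeries.X i) ∈ ((maximalIdeal O) ^ 2).map π.toRingHom := by
      have h2 : ε0 (z i - ι (y i)) ∈ ((maximalIdeal O) ^ 2).map π.toRingHom :=
        hsq ▸ Ideal.mem_map_of_mem ε0.toRingHom (hzclose i)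
      have h3 := add_mem h2 (hyX i)
      rwa [map_sub, hε0, sub_add_sub_cancel] at h3
    rw [Ideal.map_pow, hm, ← Ideal.map_pow, Ideal.mem_map_iff_of_surjective mk Ideal.Quotient.mk_surjective] at h1
    obtain ⟨w, hw, hw'⟩ := h1
    exact ⟨MvPowerSeries.X i + w, by simpa using hw, by rw [map_add, hw']; ring⟩
  choose p hp hpe using hp
  haveI : Module.Flat (Localization.AtPrime (VanCyc.originQuot k (VanCyc.quadPart f) 0)) R' := by
    refine flat_of_cone hf (ε0.comp (IsScalarTower.toAlgHom k R' Oh)) ?_ p hp fun i ↦ ?_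
    · refine RingHom.FaithfullyFlat.stableUnderComposition _ _ ?_
        (RingHom.FaithfullyFlat.stableUnderComposition _ _ hψcff heff)
      exact (RingHom.faithfullyFlat_algebraMap_iff).2 GrothLib.Hensel.IsHenselization.faithfullyFlat
    · show ε0 (algebraMap R' Oh (ψ (algebraMap _ _ (Ideal.Quotient.mk _ (MvPolynomial.X i))))) = _
      rw [hψX, show χ (Ideal.Quotient.mk _ (MvPolynomial.X i)) = a i from MvPolynomial.aeval_X a i, haz]
      exact (hpe i).symm
  letI : Algebra (Localization.AtPrime (VanCyc.originQuot k (VanCyc.quadPart f) 0)) Oh :=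
    ((algebraMap R' Oh).comp ψ.toRingHom).toAlgebra
  haveI : IsScalarTower (Localization.AtPrime (VanCyc.originQuot k (VanCyc.quadPart f) 0)) R' Oh :=
    .of_algebraMap_eq fun _ ↦ rfl
  haveI : IsLocalHom (algebraMap (Localization.AtPrime (VanCyc.originQuot k (VanCyc.quadPart f) 0)) Oh) :=
    RingHom.isLocalHom_comp (algebraMap R' Oh) (algebraMap _ R')
  haveI : IsScalarTower k (Localization.AtPrime (VanCyc.originQuot k (VanCyc.quadPart f) 0)) Oh :=
    .of_algebraMap_eq fun c ↦ by
      show algebraMap k Oh c = algebraMap R' Oh (ψ (algebraMap k _ c))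
      rw [ψ.commutes, ← IsScalarTower.algebraMap_apply]
  haveI : IsNoetherianRing (Localization.AtPrime (VanCyc.originQuot k (VanCyc.quadPart f) 0)) :=
    IsLocalization.isNoetherianRing (VanCyc.originQuot k (VanCyc.quadPart f) 0).primeCompl _ inferInstance
  haveI : Hensel.IsHenselization (Localization.AtPrime (VanCyc.originQuot k (VanCyc.quadPart f) 0)) Oh :=
    henselization_down (R' := R') hresC Oh
  obtain ⟨E⟩ := GrothLib.Hensel.IsHenselization.nonempty_algEquiv
    (R := Localization.AtPrime (VanCyc.originQuot k (VanCyc.quadPart f) 0)) (S := Oh) (S' := C)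
  exact ⟨E.restrictScalars k⟩

end GrothLib.OrdHens1
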